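import Cfsg.Agent.DL.Dw.Seq

set_option autoImplicit false

open PowerSeries

namespace Cfsg.Agent.DL.Dw

/-- Siegel's lemma, in the form needed here. -/
theorem siegel_window (a : ℕ → ℤ) (C0 Q : ℝ) (hC0 : 1 ≤ C0) (hQ : 1 ≤ Q)
    (ha : ∀ m, |(a m : ℝ)| ≤ C0 * Q ^ m) (e : ℕ) (he : 0 < e) :
    ∃ t : ℕ → ℤ, (∃ j < 2 * e, t j ≠ 0) ∧
      (∀ j < 2 * e, |(t j : ℝ)| ≤ 2 * e * (C0 * Q ^ (3 * e))) ∧
      ∀ i < e, ∑ j ∈ Finset.range (2 * e), t j * a (2 * e + i - j) = 0 := by
  let _ : SeminormedAddCommGroup (Matrix (Fin e) (Fin (2 * e)) ℤ) := Matrix.seminormedAddCommGroup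
  let A : Matrix (Fin e) (Fin (2 * e)) ℤ := fun i j => a (2 * e + i - j)
  obtain ⟨t, ht0, ht1, ht2⟩ := Int.Matrix.exists_ne_zero_int_vec_norm_le A (by simp; omega)
    (by simpa using he)
  have hA : ‖A‖ ≤ C0 * Q ^ (3 * e) := by
    rw [Matrix.norm_le_iff (by positivity)]
    intro i j
    rw [Int.norm_eq_abs]
    refine (ha _).trans (mul_le_mul_of_nonneg_left (pow_le_pow_right₀ hQ ?_) (by linarith))
    have := i.2
    omega
  have h1 : (1 : ℝ) ≤ C0 * Q ^ (3 * e) := one_le_mul_of_one_le_of_one_le hC0 (one_le_pow₀ hQ)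
  have hexp : ((Fintype.card (Fin e) : ℝ) / ((Fintype.card (Fin (2 * e)) : ℝ) -
      (Fintype.card (Fin e) : ℝ))) = 1 := by
    have : (e : ℝ) ≠ 0 := by exact_mod_cast he.ne'
    simp only [Fintype.card_fin]
    push_cast
    field_simp
    ring
  rw [hexp, Real.rpow_one] at ht2
  refine ⟨fun j => if h : j < 2 * e then t ⟨j, h⟩ else 0, ?_, fun j hj => ?_, fun i hi => ?_⟩
  · obtain ⟨j, hj⟩ := Function.ne_iff.1 ht0
    exact ⟨j, j.2, by simpa [j.2] using hj⟩
  · simp only [dif_pos hj]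
    have := (norm_le_pi_norm t ⟨j, hj⟩).trans ht2
    rw [Int.norm_eq_abs] at this
    refine this.trans ?_
    simp only [Fintype.card_fin]
    push_cast
    exact mul_le_mul_of_nonneg_left (max_le h1 hA) (by positivity)
  · have := congrFun ht1 ⟨i, hi⟩
    simp only [Matrix.mulVec, dotProduct, A, Pi.zero_apply] at this
    rw [Finset.sum_range]
    refine Eq.trans (Finset.sum_congr rfl fun j _ => ?_) this
    simp only [dif_pos j.2]
    rw [mul_comm]

theorem coeff_sum_monomial_mul {R : Type*} [CommRing R] (t : ℕ → R) (N : ℕ) (f : R⟦X⟧) (M : ℕ)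
    (hM : N ≤ M + 1) :
    coeff M (((∑ j ∈ Finset.range N, Polynomial.monomial j (t j) : Polynomial R) : R⟦X⟧) * f) =
      ∑ j ∈ Finset.range N, t j * coeff (M - j) f := by
  have : ((∑ j ∈ Finset.range N, Polynomial.monomial j (t j) : Polynomial R) : R⟦X⟧) =
      ∑ j ∈ Finset.range N, C (t j) * X ^ j := by
    rw [← Polynomial.coeToPowerSeries.ringHom_apply, map_sum]
    refine Finset.sum_congr rfl fun j _ => ?_
    rw [← Polynomial.C_mul_X_pow_eq_monomial]
    simp
  rw [this, Finset.sum_mul, map_sum]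
  refine Finset.sum_congr rfl fun j hj => ?_
  have hj' : j ≤ M := by have := Finset.mem_range.1 hj; omega
  rw [mul_assoc, coeff_C_mul, coeff_X_pow_mul', if_pos hj']

variable {E : Type*} [NormedField E] [IsUltrametricDist E]

/-- (F3) the Borel–Dwork rationality criterion. -/
theorem borel_dwork (hE : ∀ n : ℤ, n ≠ 0 → 1 ≤ |(n : ℝ)| * ‖(n : E)‖)
    (a : ℕ → ℤ) (C0 Q : ℝ) (ha : ∀ m, |(a m : ℝ)| ≤ C0 * Q ^ m)
    (c b : E⟦X⟧) (hc : Entire c) (hb : Entire b) (hc0 : coeff 0 c = 1)
    (h : c * PowerSeries.mk (fun m => (a m : E)) = b) :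
    ∃ B P : Polynomial ℤ, B ≠ 0 ∧ (B : ℤ⟦X⟧) * PowerSeries.mk a = P := by
  -- normalise the constants
  obtain ⟨C0, Q, hC0, hQ, ha⟩ : ∃ C0 Q : ℝ, 1 ≤ C0 ∧ 1 ≤ Q ∧ ∀ m, |(a m : ℝ)| ≤ C0 * Q ^ m := by
    refine ⟨max 1 |C0|, max 1 |Q|, le_max_left _ _, le_max_left _ _, fun m => (ha m).trans ?_⟩
    refine (le_abs_self _).trans ?_
    rw [abs_mul, abs_pow]
    exact mul_le_mul (le_max_right _ _) (pow_le_pow_left₀ (abs_nonneg _) (le_max_right _ _) m)
      (by positivity) (by positivity)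
  set R : ℝ := 8 * Q ^ 6 with hR
  have hR1 : 1 ≤ R := by
    have : 1 ≤ Q ^ 6 := one_le_pow₀ hQ
    linarith
  obtain ⟨Cc, hCc⟩ := hc R hR1
  obtain ⟨Cb, hCb⟩ := hb R hR1
  set K : ℝ := max Cc Cb with hK
  have hK0 : 0 ≤ K := le_trans (le_trans (by positivity) (hCc 0)) (le_max_left _ _)
  obtain ⟨e0, he0⟩ := pow_unbounded_of_one_lt (4 * C0 ^ 2 * K) (one_lt_two : (1 : ℝ) < 2)
  set e := e0 + 1 with he
  have he1 : 4 * C0 ^ 2 * K < 2 ^ e := he0.trans_le (pow_le_pow_right₀ one_le_two (by omega))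
  obtain ⟨t, ⟨j0, hj0, ht0⟩, ht1, ht2⟩ := siegel_window a C0 Q hC0 hQ ha e (by omega)
  set B : Polynomial ℤ := ∑ j ∈ Finset.range (2 * e), Polynomial.monomial j (t j) with hB
  set d : ℤ⟦X⟧ := (B : ℤ⟦X⟧) * PowerSeries.mk a with hd
  have hdc : ∀ k, coeff (2 * e + k) d = ∑ j ∈ Finset.range (2 * e), t j * a (2 * e + k - j) := by
    intro k
    rw [hd, hB, coeff_sum_monomial_mul _ _ _ _ (by omega)]
    simp
  set BE : Polynomial E := ∑ j ∈ Finset.range (2 * e), Polynomial.monomial j ((t j : ℤ) : E)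
    with hBE
  have hmap : PowerSeries.map (Int.castRingHom E) d =
      (BE : E⟦X⟧) * PowerSeries.mk (fun m => (a m : E)) := by
    have e1 : PowerSeries.map (Int.castRingHom E) (B : ℤ⟦X⟧) = (BE : E⟦X⟧) := by
      rw [← Polynomial.polynomial_map_coe, hB, hBE, Polynomial.map_sum]
      simp
    have e2 : PowerSeries.map (Int.castRingHom E) (PowerSeries.mk a) =
        PowerSeries.mk (fun m => (a m : E)) := by
      ext n; simp
    rw [hd, map_mul, e1, e2]
  have hkey : c * PowerSeries.map (Int.castRingHom E) d = (BE : E⟦X⟧) * b := by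
    rw [hmap, ← h]; ring
  have hbound : ∀ {x : E} {i k : ℕ} {C' : ℝ}, ‖x‖ * R ^ i ≤ C' → C' ≤ K → k ≤ i →
      ‖x‖ ≤ K / R ^ k := by
    intro x i k C' h1 h2 h3
    rw [le_div_iff₀ (by positivity)]
    exact (mul_le_mul_of_nonneg_left (pow_le_pow_right₀ hR1 h3) (norm_nonneg _)).trans
      (h1.trans h2)
  have hzero : ∀ k, coeff (2 * e + k) d = 0 := by
    intro k
    induction k using Nat.strong_induction_on with
    | _ k ih =>
      by_cases hk : k < e
      · rw [hdc, ht2 k hk]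
      push Not at hk
      by_contra hne
      have h1 := hE _ hne
      -- archimedean bound
      have h2 : |((coeff (2 * e + k) d : ℤ) : ℝ)| ≤ 4 * 4 ^ k * C0 ^ 2 * (Q ^ 6) ^ k := by
        rw [hdc]
        push_cast
        refine (Finset.abs_sum_le_sum_abs _ _).trans ?_
        have h3 : ∀ j ∈ Finset.range (2 * e), |(t j : ℝ) * (a (2 * e + k - j) : ℝ)| ≤
            2 * e * (C0 * Q ^ (3 * e)) * (C0 * Q ^ (2 * e + k)) := by
          intro j hj
          rw [abs_mul]
          refine mul_le_mul (ht1 j (Finset.mem_range.1 hj)) ((ha _).trans ?_) (abs_nonneg _)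
            (by positivity)
          exact mul_le_mul_of_nonneg_left (pow_le_pow_right₀ hQ (by omega)) (by linarith)
        refine (Finset.sum_le_card_nsmul _ _ _ h3).trans ?_
        rw [Finset.card_range, nsmul_eq_mul]
        push_cast
        have h4 : (e : ℝ) ≤ 2 ^ k := by
          have : k < 2 ^ k := Nat.lt_two_pow_self
          exact_mod_cast (hk.trans this.le)
        have h5 : (e : ℝ) * e ≤ 4 ^ k := by
          have : (4 : ℝ) ^ k = 2 ^ k * 2 ^ k := by rw [← mul_pow]; norm_num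
          rw [this]
          exact mul_le_mul h4 h4 (by positivity) (by positivity)
        have h6 : Q ^ (3 * e) * Q ^ (2 * e + k) ≤ (Q ^ 6) ^ k := by
          rw [← pow_add, ← pow_mul]
          exact pow_le_pow_right₀ hQ (by omega)
        calc 2 * (e : ℝ) * (2 * e * (C0 * Q ^ (3 * e)) * (C0 * Q ^ (2 * e + k)))
            = 4 * ((e : ℝ) * e) * C0 ^ 2 * (Q ^ (3 * e) * Q ^ (2 * e + k)) := by ring
          _ ≤ 4 * 4 ^ k * C0 ^ 2 * (Q ^ 6) ^ k := by gcongr
      -- non-archimedean bound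
      have h3 : ‖((coeff (2 * e + k) d : ℤ) : E)‖ ≤ K / R ^ k := by
        have h4 := congrArg (coeff (2 * e + k)) hkey
        rw [coeff_mul, Finset.Nat.sum_antidiagonal_eq_sum_range_succ_mk, Finset.sum_range_succ',
          hc0, one_mul, hBE, coeff_sum_monomial_mul _ _ _ _ (by omega)] at h4
        simp only [coeff_map, eq_intCast, Nat.sub_zero] at h4
        have h5 := eq_sub_of_add_eq' h4
        rw [h5, sub_eq_add_neg]
        have hKR : 0 ≤ K / R ^ k := by positivity
        refine (IsUltrametricDist.norm_add_le_max _ _).trans (max_le ?_ ?_)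
        · refine IsUltrametricDist.norm_sum_le_of_forall_le_of_nonneg hKR fun j hj => ?_
          have hj' := Finset.mem_range.1 hj
          rw [norm_mul]
          refine (mul_le_of_le_one_left (norm_nonneg _)
            (IsUltrametricDist.norm_intCast_le_one E _)).trans ?_
          exact hbound (hCb _) (le_max_right _ _) (by omega)
        · rw [norm_neg]
          refine IsUltrametricDist.norm_sum_le_of_forall_le_of_nonneg hKR fun i hi => ?_
          by_cases hik : i + 1 ≤ k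
          · have : 2 * e + k - (i + 1) = 2 * e + (k - (i + 1)) := by omega
            rw [this, ih _ (by omega)]
            simpa using hKR
          · rw [norm_mul]
            refine (mul_le_of_le_one_right (norm_nonneg _)
              (IsUltrametricDist.norm_intCast_le_one E _)).trans ?_
            exact hbound (hCc _) (le_max_left _ _) (by omega)
      have h4 : (1 : ℝ) ≤ 4 * 4 ^ k * C0 ^ 2 * (Q ^ 6) ^ k * (K / R ^ k) :=
        h1.trans (mul_le_mul h2 h3 (norm_nonneg _) (by positivity))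
      have h5 : 4 * 4 ^ k * C0 ^ 2 * (Q ^ 6) ^ k * (K / R ^ k) = 4 * C0 ^ 2 * K / 2 ^ k := by
        have : (8 : ℝ) ^ k = 4 ^ k * 2 ^ k := by rw [← mul_pow]; norm_num
        rw [hR, mul_pow, this]
        have hQ0 : Q ≠ 0 := by linarith
        field_simp
      rw [h5, le_div_iff₀ (by positivity), one_mul] at h4
      have h6 : (2 : ℝ) ^ e ≤ 2 ^ k := pow_le_pow_right₀ one_le_two hk
      linarith
  refine ⟨B, trunc (2 * e) d, ?_, ?_⟩
  · intro hB0
    have := congrArg (fun P => Polynomial.coeff P j0) hB0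
    simp only [hB, Polynomial.finsetSum_coeff, Polynomial.coeff_monomial, Polynomial.coeff_zero,
      Finset.sum_ite_eq', Finset.mem_range, if_pos hj0] at this
    exact ht0 this
  · ext n
    rw [Polynomial.coeff_coe, coeff_trunc]
    split_ifs with hn
    · rfl
    · obtain ⟨k, rfl⟩ := Nat.exists_eq_add_of_le (not_lt.1 hn)
      exact hzero k

end Cfsg.Agent.DL.Dw
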