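import Mathlib

set_option autoImplicit false

namespace Cfsg.Agent.DL.Dw

open Polynomial

section field
variable {E : Type*} [Field E]

/-- Extracting one geometric term from an exponential sum. -/
theorem exists_extract (s : Finset E) (c : E → E) (γ₀ : E) (h₀ : γ₀ ∈ s) :
    ∃ (n : ℕ) (e : ℕ → E), ∀ m : ℕ, c γ₀ * γ₀ ^ m =
      ∑ l ∈ Finset.range n, e l * ∑ γ ∈ s, c γ * γ ^ (m + l) := by
  classical
  set P : E[X] := ∏ γ ∈ s.erase γ₀, (X - C γ) with hP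
  have hP0 : P.eval γ₀ ≠ 0 := by
    rw [hP, eval_prod]
    refine Finset.prod_ne_zero_iff.2 fun γ hγ => ?_
    simpa [sub_eq_zero] using (Finset.ne_of_mem_erase hγ).symm
  have hP1 : ∀ γ ∈ s.erase γ₀, P.eval γ = 0 := by
    intro γ hγ
    rw [hP, eval_prod]
    exact Finset.prod_eq_zero hγ (by simp)
  refine ⟨P.natDegree + 1, fun l => (P.eval γ₀)⁻¹ * P.coeff l, fun m => ?_⟩
  have h1 : ∑ l ∈ Finset.range (P.natDegree + 1), (P.eval γ₀)⁻¹ * P.coeff l *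
      ∑ γ ∈ s, c γ * γ ^ (m + l) = (P.eval γ₀)⁻¹ * ∑ γ ∈ s, c γ * γ ^ m * P.eval γ := by
    simp only [Finset.mul_sum, eval_eq_sum_range (p := P)]
    rw [Finset.sum_comm]
    refine Finset.sum_congr rfl fun γ _ => Finset.sum_congr rfl fun l _ => ?_
    rw [pow_add]; ring
  rw [h1, ← Finset.add_sum_erase _ _ h₀, Finset.sum_eq_zero (fun γ hγ => by rw [hP1 γ hγ, mul_zero])]
  field_simp
  ring

/-- Uniqueness of the coefficients of an exponential sum. -/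
theorem coeff_eq_zero_of_expSum_eq_zero (s : Finset E) (c : E → E) (m₀ : ℕ)
    (h : ∀ m, m₀ ≤ m → ∑ γ ∈ s, c γ * γ ^ m = 0) (γ₀ : E) (h₀ : γ₀ ∈ s) (hγ : γ₀ ≠ 0) :
    c γ₀ = 0 := by
  obtain ⟨n, e, he⟩ := exists_extract s c γ₀ h₀
  have := he m₀
  rw [Finset.sum_eq_zero (fun l _ => by rw [h _ (by omega), mul_zero])] at this
  exact (mul_eq_zero.1 this).resolve_right (pow_ne_zero _ hγ)

theorem finsupp_eq_zero_of_expSum_eq_zero (c : E →₀ E) (hc : c 0 = 0) (m₀ : ℕ)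
    (h : ∀ m, m₀ ≤ m → (c.sum fun γ k => k * γ ^ m) = 0) : c = 0 := by
  ext γ
  by_contra hγ
  have hγ' : c γ ≠ 0 := hγ
  have h0 : γ ≠ 0 := by rintro rfl; exact hγ' hc
  exact hγ' (coeff_eq_zero_of_expSum_eq_zero c.support c m₀ h γ (Finsupp.mem_support_iff.2 hγ') h0)

theorem finsupp_eq_of_expSum_eq (c d : E →₀ E) (hc : c 0 = 0) (hd : d 0 = 0) (m₀ : ℕ)
    (h : ∀ m, m₀ ≤ m → (c.sum fun γ k => k * γ ^ m) = d.sum fun γ k => k * γ ^ m) : c = d := by
  rw [← sub_eq_zero]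
  refine finsupp_eq_zero_of_expSum_eq_zero _ (by simp [hc, hd]) m₀ fun m hm => ?_
  rw [Finsupp.sum_sub_index (fun a b c => by ring), h m hm, sub_self]

theorem finsupp_int_eq_of_expSum_eq [CharZero E] (c d : E →₀ ℤ) (hc : c 0 = 0) (hd : d 0 = 0)
    (m₀ : ℕ) (h : ∀ m, m₀ ≤ m →
      (c.sum fun γ k => (k : E) * γ ^ m) = d.sum fun γ k => (k : E) * γ ^ m) : c = d := by
  have := finsupp_eq_of_expSum_eq (c.mapRange (Int.cast : ℤ → E) Int.cast_zero)
    (d.mapRange (Int.cast : ℤ → E) Int.cast_zero) (by simp [hc]) (by simp [hd]) m₀ fun m hm => by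
      rw [Finsupp.sum_mapRange_index (by simp), Finsupp.sum_mapRange_index (by simp), h m hm]
  ext γ
  have h1 := DFunLike.congr_fun this γ
  simpa using h1

/-- If an exponential sum takes its values in a finitely generated `ℤ`-module, then its bases are
algebraic integers. -/
theorem isIntegral_of_expSum_mem (s : Finset E) (c : E → E) (M : Submodule ℤ E) (hM : M.FG)
    (h : ∀ m, 0 < m → ∑ γ ∈ s, c γ * γ ^ m ∈ M) (γ₀ : E) (h₀ : γ₀ ∈ s) (hc : c γ₀ ≠ 0) :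
    IsIntegral ℤ γ₀ := by
  obtain ⟨n, e, he⟩ := exists_extract s c γ₀ h₀
  let N : Submodule ℤ E := Submodule.span ℤ {1} ⊔
    ⨆ l ∈ Finset.range n, M.map (LinearMap.mulLeft ℤ ((c γ₀)⁻¹ * e l))
  have hN : N.FG := (Submodule.fg_span_singleton _).sup
    (Submodule.fg_biSup _ _ fun l _ => hM.map _)
  have hpow : ∀ m : ℕ, γ₀ ^ m ∈ N := by
    intro m
    rcases Nat.eq_zero_or_pos m with rfl | hm
    · exact Submodule.mem_sup_left (by simp)
    · refine Submodule.mem_sup_right ?_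
      have : γ₀ ^ m = ∑ l ∈ Finset.range n, ((c γ₀)⁻¹ * e l) * ∑ γ ∈ s, c γ * γ ^ (m + l) := by
        simp only [mul_assoc]
        rw [← Finset.mul_sum, ← he m, ← mul_assoc, inv_mul_cancel₀ hc, one_mul]
      rw [this]
      refine Submodule.sum_mem _ fun l hl => ?_
      exact Submodule.mem_iSup_of_mem l (Submodule.mem_iSup_of_mem hl
        ⟨_, h (m + l) (by omega), rfl⟩)
  refine IsIntegral.of_mem_of_fg (Algebra.adjoin ℤ {γ₀}) ?_ _ (Algebra.self_mem_adjoin_singleton _ _)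
  refine isNoetherian_submodule.1 (isNoetherian_of_fg_of_noetherian N hN) _ ?_
  intro x hx
  have hx' : x ∈ Algebra.adjoin ℤ {γ₀} := hx
  rw [Algebra.adjoin_singleton_eq_range_aeval] at hx'
  obtain ⟨P, rfl⟩ := hx'
  change aeval γ₀ P ∈ N
  rw [aeval_eq_sum_range]
  exact Submodule.sum_mem _ fun i _ => N.smul_mem _ (hpow i)

end field

/-- The bases of an exponentially bounded exponential sum are bounded. -/
theorem norm_le_of_expSum_le {E : Type*} [NormedField E] (s : Finset E) (c : E → E) (K Q : ℝ)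
    (hQ : 0 ≤ Q) (h : ∀ m, 0 < m → ‖∑ γ ∈ s, c γ * γ ^ m‖ ≤ K * Q ^ m) (γ₀ : E) (h₀ : γ₀ ∈ s)
    (hc : c γ₀ ≠ 0) : ‖γ₀‖ ≤ Q := by
  obtain ⟨n, e, he⟩ := exists_extract s c γ₀ h₀
  by_contra hlt
  push Not at hlt
  set L : ℝ := ∑ l ∈ Finset.range n, ‖e l‖ * (K * Q ^ l) with hL
  have h1 : ∀ m, 0 < m → ‖c γ₀‖ * ‖γ₀‖ ^ m ≤ L * Q ^ m := by
    intro m hm
    rw [← norm_pow, ← norm_mul, he m, hL, Finset.sum_mul]
    refine (norm_sum_le _ _).trans (Finset.sum_le_sum fun l _ => ?_)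
    rw [norm_mul]
    refine (mul_le_mul_of_nonneg_left (h _ (by omega)) (norm_nonneg _)).trans_eq ?_
    rw [pow_add]; ring
  have hc0 : 0 < ‖c γ₀‖ := norm_pos_iff.2 hc
  have hγ0 : 0 < ‖γ₀‖ := hQ.trans_lt hlt
  rcases hQ.eq_or_lt with rfl | hQ0
  · have := h1 1 one_pos
    simp only [pow_one, mul_zero] at this
    exact absurd this (not_le.2 (mul_pos hc0 hγ0))
  · obtain ⟨m, hm⟩ := pow_unbounded_of_one_lt (L / ‖c γ₀‖) ((one_lt_div hQ0).2 hlt)
    have h2 : (‖γ₀‖ / Q) ^ m ≤ (‖γ₀‖ / Q) ^ (m + 1) :=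
      pow_le_pow_right₀ ((one_lt_div hQ0).2 hlt).le (Nat.le_succ m)
    have h3 := hm.trans_le h2
    rw [div_pow, div_lt_div_iff₀ hc0 (by positivity)] at h3
    have := h1 (m + 1) (Nat.succ_pos m)
    linarith

end Cfsg.Agent.DL.Dw
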