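import Cfsg.Agent.DL.Dw.Seq

set_option autoImplicit false

open PowerSeries

namespace Cfsg.Agent.DL.Dw

section gauss
variable {E : Type*} [NormedField E]

/-- `i` is the first index at which `‖f_j‖ R^j` attains its maximum `N`. -/
def Dom (f : E⟦X⟧) (R : ℝ) (i : ℕ) (N : ℝ) : Prop :=
  ‖coeff i f‖ * R ^ i = N ∧ (∀ j, ‖coeff j f‖ * R ^ j ≤ N) ∧ ∀ j < i, ‖coeff j f‖ * R ^ j < N

theorem Entire.exists_dom {f : E⟦X⟧} (hf : Entire f) (hf0 : f ≠ 0) {R : ℝ} (hR : 1 ≤ R) :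
    ∃ i N, 0 < N ∧ Dom f R i N := by
  classical
  obtain ⟨j1, hj1⟩ : ∃ j, coeff j f ≠ 0 := by
    by_contra h
    push Not at h
    exact hf0 (PowerSeries.ext fun j => by simpa using h j)
  set g : ℕ → ℝ := fun j => ‖coeff j f‖ * R ^ j with hg
  have ha : 0 < g j1 := mul_pos (norm_pos_iff.2 hj1) (by positivity)
  obtain ⟨C, hC⟩ := hf (2 * R) (by linarith)
  obtain ⟨J0, hJ0⟩ := pow_unbounded_of_one_lt (C / g j1) (one_lt_two : (1 : ℝ) < 2)
  have hbig : ∀ j, J0 ≤ j → g j < g j1 := by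
    intro j hj
    have h1 : (2 : ℝ) ^ J0 ≤ 2 ^ j := pow_le_pow_right₀ one_le_two hj
    have h2 : 2 ^ j * g j ≤ C := by
      have := hC j
      rw [mul_pow] at this
      simp only [hg]; linarith
    rw [div_lt_iff₀ ha] at hJ0
    have h3 : 2 ^ j * g j < 2 ^ j * g j1 :=
      h2.trans_lt (hJ0.trans_le (mul_le_mul_of_nonneg_right h1 ha.le))
    exact lt_of_mul_lt_mul_left h3 (by positivity)
  obtain ⟨i0, -, hi0⟩ := Finset.exists_max_image (Finset.range (J0 + j1 + 1)) g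
    ⟨j1, Finset.mem_range.2 (by omega)⟩
  have hmax : ∀ j, g j ≤ g i0 := by
    intro j
    by_cases hj : j < J0 + j1 + 1
    · exact hi0 j (Finset.mem_range.2 hj)
    · exact (hbig j (by omega)).le.trans (hi0 j1 (Finset.mem_range.2 (by omega)))
  have hex : ∃ i, g i = g i0 := ⟨i0, rfl⟩
  refine ⟨Nat.find hex, g i0, ha.trans_le (hmax j1), Nat.find_spec hex, hmax, fun j hj => ?_⟩
  exact lt_of_le_of_ne (hmax j) (Nat.find_min hex hj)

variable [IsUltrametricDist E]

theorem Dom.mul {f g : E⟦X⟧} {R : ℝ} (hR : 0 < R) {i j : ℕ} {N M : ℝ} (hN : 0 < N) (hM : 0 < M)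
    (hf : Dom f R i N) (hg : Dom g R j M) : Dom (f * g) R (i + j) (N * M) := by
  classical
  have hterm : ∀ a b : ℕ, a < i ∨ b < j →
      ‖coeff a f * coeff b g‖ * R ^ (a + b) < N * M := by
    intro a b hab
    have : ‖coeff a f * coeff b g‖ * R ^ (a + b) =
        (‖coeff a f‖ * R ^ a) * (‖coeff b g‖ * R ^ b) := by rw [norm_mul, pow_add]; ring
    rw [this]
    rcases hab with h | h
    · exact (mul_le_mul_of_nonneg_left (hg.2.1 b) (by positivity)).trans_lt
        (mul_lt_mul_of_pos_right (hf.2.2 a h) hM)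
    · exact mul_lt_mul' (hf.2.1 a) (hg.2.2 b h) (by positivity) hN
  have hsum : ∀ (n : ℕ) (s : Finset (ℕ × ℕ)), (∀ x ∈ s, x.1 + x.2 = n ∧ (x.1 < i ∨ x.2 < j)) →
      ‖∑ x ∈ s, coeff x.1 f * coeff x.2 g‖ * R ^ n < N * M := by
    intro n s hs
    rcases s.eq_empty_or_nonempty with rfl | hne
    · simpa using mul_pos hN hM
    · obtain ⟨x, hx, hle⟩ := IsUltrametricDist.exists_norm_finsetSum_le_of_nonempty hne
        (fun x => coeff x.1 f * coeff x.2 g)
      have := hterm x.1 x.2 (hs x hx).2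
      rw [(hs x hx).1] at this
      exact (mul_le_mul_of_nonneg_right hle (by positivity)).trans_lt this
  refine ⟨?_, norm_coeff_mul_le hR.le hf.2.1 hg.2.1, fun n hn => ?_⟩
  · rw [coeff_mul, ← Finset.add_sum_erase _ _
      (Finset.HasAntidiagonal.mem_antidiagonal.2 (rfl : (i, j).1 + (i, j).2 = i + j))]
    have h1 : ‖coeff i f * coeff j g‖ * R ^ (i + j) = N * M := by
      rw [norm_mul, pow_add, ← hf.1, ← hg.1]; ring
    have h2 := hsum (i + j) ((Finset.HasAntidiagonal.antidiagonal (i + j)).erase (i, j)) (by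
      intro x hx
      have hx1 := Finset.HasAntidiagonal.mem_antidiagonal.1 (Finset.mem_of_mem_erase hx)
      have hx2 := Finset.ne_of_mem_erase hx
      refine ⟨hx1, ?_⟩
      by_contra h
      push Not at h
      exact hx2 (Prod.ext (by simp; omega) (by simp; omega)))
    rw [← h1] at h2
    have h3 := lt_of_mul_lt_mul_right h2 (by positivity)
    rw [IsUltrametricDist.norm_add_eq_max_of_norm_ne_norm h3.ne', max_eq_left h3.le, h1]
  · rw [coeff_mul]
    refine hsum n _ fun x hx => ?_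
    have hx1 := Finset.HasAntidiagonal.mem_antidiagonal.1 hx
    exact ⟨hx1, by omega⟩

/-- An entire logarithmic derivative of a quotient of entire series vanishes. -/
theorem eq_zero_of_logDeriv {f g P : E⟦X⟧} (hf : Entire f) (hg : Entire g) (hP : Entire P)
    (hf0 : f ≠ 0) (hg0 : g ≠ 0) (h : f * g * P = d⁄dX E g * f - d⁄dX E f * g) : P = 0 := by
  by_contra hP0
  obtain ⟨j1, hj1⟩ : ∃ j, coeff j P ≠ 0 := by
    by_contra h
    push Not at h
    exact hP0 (PowerSeries.ext fun j => by simpa using h j)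
  have ha : 0 < ‖coeff j1 P‖ := norm_pos_iff.2 hj1
  set R : ℝ := 1 + ‖coeff j1 P‖⁻¹ with hRdef
  have hR : 1 ≤ R := by have := inv_pos.2 ha; linarith
  have hR0 : 0 < R := by linarith
  obtain ⟨i, N, hN, hi⟩ := hf.exists_dom hf0 hR
  obtain ⟨j, M, hM, hj⟩ := hg.exists_dom hg0 hR
  obtain ⟨k, L, hL, hk⟩ := hP.exists_dom hP0 hR
  have h1 := ((hi.mul hR0 hN hM hj).mul hR0 (mul_pos hN hM) hL hk).1
  rw [h, map_sub, sub_eq_add_neg] at h1
  have h2 := norm_coeff_mul_le hR0.le (norm_coeff_derivative_le hR0 hj.2.1) hi.2.1 (i + j + k)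
  have h3 := norm_coeff_mul_le hR0.le (norm_coeff_derivative_le hR0 hi.2.1) hj.2.1 (i + j + k)
  have h4 : N * M * L ≤ N * M / R := by
    rw [← h1]
    refine (mul_le_mul_of_nonneg_right (IsUltrametricDist.norm_add_le_max _ _)
      (by positivity)).trans ?_
    rw [max_mul_of_nonneg _ _ (by positivity), norm_neg]
    refine max_le (h2.trans_eq ?_) (h3.trans_eq ?_) <;> ring
  have h5 : L ≤ 1 / R := by
    have : N * M * L ≤ N * M * (1 / R) := by rw [mul_one_div]; exact h4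
    exact le_of_mul_le_mul_left this (mul_pos hN hM)
  have h6 : ‖coeff j1 P‖ ≤ L :=
    le_trans (le_mul_of_one_le_right ha.le (one_le_pow₀ hR)) (hk.2.1 j1)
  have h7 : ‖coeff j1 P‖ * R ≤ 1 := by
    rw [← le_div_iff₀ hR0]; exact h6.trans h5
  rw [hRdef, mul_add, mul_inv_cancel₀ ha.ne'] at h7
  linarith

end gauss

section eval
variable {E : Type*} [NormedField E]

/-- value of an entire series -/
noncomputable def ev (f : E⟦X⟧) (t : E) : E := ∑' j, coeff j f * t ^ j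

theorem Entire.summable_norm {f : E⟦X⟧} (hf : Entire f) (t : E) :
    Summable fun j => ‖coeff j f * t ^ j‖ := by
  obtain ⟨C, hC⟩ := hf (2 * max 1 ‖t‖) (by have := le_max_left 1 ‖t‖; linarith)
  refine Summable.of_nonneg_of_le (fun j => norm_nonneg _) (fun j => ?_)
    ((summable_geometric_two).mul_left C)
  have h1 := hC j
  rw [mul_pow] at h1
  have h2 : ‖t‖ ^ j ≤ (max 1 ‖t‖) ^ j := pow_le_pow_left₀ (norm_nonneg _) (le_max_right _ _) j
  rw [norm_mul, norm_pow, one_div, inv_pow, ← div_eq_mul_inv, le_div_iff₀ (by positivity)]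
  calc ‖coeff j f‖ * ‖t‖ ^ j * 2 ^ j ≤ ‖coeff j f‖ * (max 1 ‖t‖) ^ j * 2 ^ j := by gcongr
    _ = _ := by ring
    _ ≤ C := h1

theorem ev_coe (P : Polynomial E) (t : E) : ev (P : E⟦X⟧) t = P.eval t := by
  rw [ev, Polynomial.eval_eq_sum, Polynomial.sum_def, tsum_eq_sum (s := P.support)]
  · simp
  · intro j hj
    simp [Polynomial.notMem_support_iff.1 hj]

variable [CompleteSpace E]

theorem ev_mul {f g : E⟦X⟧} (hf : Entire f) (hg : Entire g) (t : E) :
    ev (f * g) t = ev f t * ev g t := by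
  rw [ev, ev, ev, tsum_mul_tsum_eq_tsum_sum_antidiagonal_of_summable_norm (hf.summable_norm t)
    (hg.summable_norm t)]
  refine tsum_congr fun n => ?_
  rw [coeff_mul, Finset.sum_mul]
  refine Finset.sum_congr rfl fun x hx => ?_
  rw [← Finset.HasAntidiagonal.mem_antidiagonal.1 hx, pow_add]
  ring

variable [IsUltrametricDist E]

theorem exists_div_of_ev_eq_zero {f : E⟦X⟧} (hf : Entire f) {t : E} (ht : t ≠ 0)
    (h0 : ev f t = 0) : ∃ u : E⟦X⟧, f = (1 - C t⁻¹ * X) * u ∧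
      ∀ R : ℝ, ‖t‖ ≤ R → ∀ K : ℝ, (∀ j, ‖coeff j f‖ * R ^ j ≤ K) →
        ∀ j, ‖coeff j u‖ * R ^ j ≤ K * (‖t‖ / R) := by
  have hinv : (1 - C t⁻¹ * X) * PowerSeries.mk (fun j => t⁻¹ ^ j) = (1 : E⟦X⟧) := by
    ext n
    cases n with
    | zero => simp [sub_mul, mul_assoc]
    | succ n => simp [sub_mul, mul_assoc, coeff_succ_X_mul, coeff_one, pow_succ', mul_comm]
  refine ⟨f * PowerSeries.mk (fun j => t⁻¹ ^ j), ?_, fun R hR K hK j => ?_⟩
  · rw [mul_left_comm, hinv, mul_one]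
  · have ht0 : 0 < ‖t‖ := norm_pos_iff.2 ht
    have hR0 : 0 < R := ht0.trans_le hR
    have hK0 : 0 ≤ K := le_trans (by positivity) (hK 0)
    have h1 : coeff j (f * PowerSeries.mk (fun j => t⁻¹ ^ j)) =
        t⁻¹ ^ j * ∑ i ∈ Finset.range (j + 1), coeff i f * t ^ i := by
      rw [coeff_mul, Finset.Nat.sum_antidiagonal_eq_sum_range_succ_mk, Finset.mul_sum]
      refine Finset.sum_congr rfl fun i hi => ?_
      have hi' : i ≤ j := Nat.lt_succ_iff.1 (Finset.mem_range.1 hi)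
      obtain ⟨k, rfl⟩ := Nat.exists_eq_add_of_le hi'
      simp only [coeff_mk, Nat.add_sub_cancel_left, pow_add, inv_pow]
      field_simp
    have h2 := (hf.summable_norm t).of_norm.sum_add_tsum_nat_add (j + 1)
    have h3 : ∑ i ∈ Finset.range (j + 1), coeff i f * t ^ i =
        - ∑' i, coeff (i + (j + 1)) f * t ^ (i + (j + 1)) := by
      rw [eq_neg_iff_add_eq_zero, h2]; exact h0
    have hq0 : 0 ≤ ‖t‖ / R := by positivity
    have hq1 : ‖t‖ / R ≤ 1 := (div_le_one hR0).2 hR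
    have h4 : ‖∑' i, coeff (i + (j + 1)) f * t ^ (i + (j + 1))‖ ≤ K * (‖t‖ / R) ^ (j + 1) := by
      refine IsUltrametricDist.norm_tsum_le_of_forall_le_of_nonneg (by positivity) fun i => ?_
      calc ‖coeff (i + (j + 1)) f * t ^ (i + (j + 1))‖
          = (‖coeff (i + (j + 1)) f‖ * R ^ (i + (j + 1))) * (‖t‖ / R) ^ (i + (j + 1)) := by
            rw [norm_mul, norm_pow, div_pow]; field_simp
        _ ≤ K * (‖t‖ / R) ^ (j + 1) :=
            mul_le_mul (hK _) (pow_le_pow_of_le_one hq0 hq1 (by omega)) (by positivity) hK0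
    rw [h1, h3, norm_mul, norm_neg, norm_pow, norm_inv]
    calc ‖t‖⁻¹ ^ j * ‖∑' i, coeff (i + (j + 1)) f * t ^ (i + (j + 1))‖ * R ^ j
        ≤ ‖t‖⁻¹ ^ j * (K * (‖t‖ / R) ^ (j + 1)) * R ^ j := by gcongr
      _ = K * (‖t‖ / R) := by rw [pow_succ, div_pow, inv_pow]; field_simp

theorem fred_factor {t : E} (ht : t ≠ 0) (n : ℕ) : ∀ (S : ℕ → E) (f : E⟦X⟧), Entire f →
    coeff 0 f = 1 → d⁄dX E f = - (gen S * f) →
    (∀ j, ‖coeff j f‖ * (2 * max 1 ‖t‖) ^ j ≤ 2 ^ n) →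
    ∃ (k : ℕ) (u : E⟦X⟧), Entire u ∧ coeff 0 u = 1 ∧
      d⁄dX E u = - (gen (fun m => S m - k * t⁻¹ ^ m) * u) ∧ ev u t ≠ 0 := by
  have hm1 : 1 ≤ max 1 ‖t‖ := le_max_left _ _
  have hm2 : ‖t‖ ≤ max 1 ‖t‖ := le_max_right _ _
  have hhalf : ‖t‖ / (2 * max 1 ‖t‖) ≤ 1 / 2 := by
    rw [div_le_div_iff₀ (by positivity) (by positivity)]; linarith
  have hstep : ∀ (f : E⟦X⟧) (K : ℝ), Entire f → coeff 0 f = 1 → ev f t = 0 →
      (∀ j, ‖coeff j f‖ * (2 * max 1 ‖t‖) ^ j ≤ K) →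
      ∃ u : E⟦X⟧, f = (1 - C t⁻¹ * X) * u ∧ Entire u ∧ coeff 0 u = 1 ∧
        ∀ j, ‖coeff j u‖ * (2 * max 1 ‖t‖) ^ j ≤ K / 2 := by
    intro f K hf hf0 hev hK
    obtain ⟨u, hu1, hu2⟩ := exists_div_of_ev_eq_zero hf ht hev
    have hK0 : 0 ≤ K := le_trans (by positivity) (hK 0)
    refine ⟨u, hu1, fun R hR => ?_, ?_, fun j => ?_⟩
    · obtain ⟨K', hK'⟩ := hf (max R ‖t‖) (hR.trans (le_max_left _ _))
      refine ⟨_, fun j => le_trans ?_ (hu2 _ (le_max_right _ _) K' hK' j)⟩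
      exact mul_le_mul_of_nonneg_left (pow_le_pow_left₀ (by linarith) (le_max_left _ _) j)
        (norm_nonneg _)
    · rw [hu1] at hf0
      simpa using hf0
    · refine (hu2 _ (by linarith) K hK j).trans ?_
      rw [div_eq_mul_one_div K 2]
      exact mul_le_mul_of_nonneg_left hhalf hK0
  induction n with
  | zero =>
    intro S f hf hf0 hd hK
    refine ⟨0, f, hf, hf0, by simpa using hd, fun hev => ?_⟩
    obtain ⟨u, -, -, hu0, hu⟩ := hstep f _ hf hf0 hev hK
    have := hu 0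
    rw [hu0] at this
    norm_num at this
  | succ n ih =>
    intro S f hf hf0 hd hK
    by_cases hev : ev f t = 0
    · obtain ⟨u, hu1, hu2, hu0, hu⟩ := hstep f _ hf hf0 hev hK
      have hL : (1 - C t⁻¹ * X : E⟦X⟧) ≠ 0 := by
        intro h
        have := congrArg (coeff 0) h
        simp at this
      have hd' : d⁄dX E u = - (gen (fun m => S m - t⁻¹ ^ m) * u) := by
        apply mul_left_cancel₀ hL
        rw [hu1, Derivation.leibniz] at hd
        have h1 : d⁄dX E (1 - C t⁻¹ * X : E⟦X⟧) = - C t⁻¹ := by simp [Derivation.leibniz]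
        rw [h1] at hd
        simp only [smul_eq_mul] at hd
        rw [gen_sub]
        linear_combination hd - u * gen_geom t⁻¹
      obtain ⟨k, v, hv1, hv2, hv3, hv4⟩ := ih _ u hu2 hu0 hd'
        (fun j => (hu j).trans_eq (by rw [pow_succ]; ring))
      refine ⟨k + 1, v, hv1, hv2, ?_, hv4⟩
      rw [hv3]
      congr 3
      funext m
      push_cast
      ring
    · exact ⟨0, f, hf, hf0, by simpa using hd, hev⟩

theorem fred_factor' {t : E} (ht : t ≠ 0) {S : ℕ → E} (hS : Fred S) :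
    ∃ (k : ℕ) (u : E⟦X⟧), Entire u ∧ coeff 0 u = 1 ∧
      d⁄dX E u = - (gen (fun m => S m - k * t⁻¹ ^ m) * u) ∧ ev u t ≠ 0 := by
  obtain ⟨f, h1, h2, h3⟩ := (fred_iff S).1 hS
  obtain ⟨K, hK⟩ := h3 (2 * max 1 ‖t‖) (by have := le_max_left 1 ‖t‖; linarith)
  obtain ⟨n, hn⟩ := pow_unbounded_of_one_lt K (one_lt_two : (1 : ℝ) < 2)
  exact fred_factor ht n S f h3 h1 h2 fun j => (hK j).trans hn.le

/-- (F4) a meromorphic sequence with rational generating function is an integral combination of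
geometric sequences. -/
theorem Mero.exists_finsupp [IsAlgClosed E] {S : ℕ → E} (hS : Mero S) {B P : Polynomial E}
    (hB : B ≠ 0) (h : (B : E⟦X⟧) * gen S = P) :
    ∃ ν : E →₀ ℤ, ν 0 = 0 ∧ ∀ m, 0 < m → S m = ν.sum fun γ k => (k : E) * γ ^ m := by
  induction hn : B.natDegree generalizing S B P with
  | zero =>
    refine ⟨0, rfl, fun m hm => ?_⟩
    obtain ⟨S₁, S₂, h1, h2, h3⟩ := hS
    obtain ⟨f, hf0, hf1, hf2⟩ := (fred_iff S₁).1 h1
    obtain ⟨g, hg0, hg1, hg2⟩ := (fred_iff S₂).1 h2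
    have hBC := Polynomial.eq_C_of_natDegree_eq_zero hn
    have hb : B.coeff 0 ≠ 0 := fun hb => hB (by rw [hBC, hb, map_zero])
    have hE : Entire (gen S) := by
      have : gen S = C (B.coeff 0)⁻¹ * (P : E⟦X⟧) := by
        rw [← h, hBC, Polynomial.coe_C, ← mul_assoc, Polynomial.coeff_C_zero, ← map_mul,
          inv_mul_cancel₀ hb, map_one, one_mul]
      rw [this]
      exact (Entire.C _).mul (Entire.coe P)
    have hz : gen S = 0 := by
      refine eq_zero_of_logDeriv hf2 hg2 hE ?_ ?_ ?_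
      · intro h0; rw [h0] at hf0; simp at hf0
      · intro h0; rw [h0] at hg0; simp at hg0
      · rw [gen_congr h3, gen_sub, hf1, hg1]; ring
    obtain ⟨k, rfl⟩ := Nat.exists_eq_add_of_le' hm
    have := congrArg (coeff k) hz
    simpa [coeff_gen] using this
  | succ n ih =>
    obtain ⟨t, ht⟩ := IsAlgClosed.exists_root B (by
      rw [Polynomial.degree_eq_natDegree hB, hn]; exact_mod_cast Nat.succ_ne_zero n)
    obtain ⟨B1, hB1⟩ := Polynomial.dvd_iff_isRoot.2 ht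
    have hB1ne : B1 ≠ 0 := fun h0 => hB (by rw [hB1, h0, mul_zero])
    have hdeg : B1.natDegree = n := by
      rw [hB1, Polynomial.natDegree_mul (Polynomial.X_sub_C_ne_zero t) hB1ne,
        Polynomial.natDegree_X_sub_C] at hn
      omega
    have hXC : ((Polynomial.X - Polynomial.C t : Polynomial E) : E⟦X⟧) ≠ 0 := by
      rw [Ne, Polynomial.coe_eq_zero_iff]
      exact Polynomial.X_sub_C_ne_zero t
    have hcancel : ∀ (S' : ℕ → E) (P' : Polynomial E), (B : E⟦X⟧) * gen S' = P' →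
        P'.eval t = 0 → ∃ P1 : Polynomial E, (B1 : E⟦X⟧) * gen S' = P1 := by
      intro S' P' h1 h2
      obtain ⟨P1, hP1⟩ := Polynomial.dvd_iff_isRoot.2 h2
      refine ⟨P1, mul_left_cancel₀ hXC ?_⟩
      rw [← mul_assoc, ← Polynomial.coe_mul, ← hB1, h1, hP1, Polynomial.coe_mul]
    by_cases ht0 : t = 0
    · obtain ⟨P1, hP1⟩ := hcancel S P h (by
        have := congrArg (coeff 0) h
        rw [ht0] at ht ⊢
        rw [← Polynomial.coeff_zero_eq_eval_zero, ← Polynomial.coeff_coe, ← this]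
        rw [Polynomial.IsRoot, ← Polynomial.coeff_zero_eq_eval_zero] at ht
        simp [ht])
      exact ih hS hB1ne hP1 hdeg
    · obtain ⟨S₁, S₂, h1, h2, h3⟩ := hS
      obtain ⟨k₁, u₁, hu1, hu2, hu3, hu4⟩ := fred_factor' ht0 h1
      obtain ⟨k₂, u₂, hv1, hv2, hv3, hv4⟩ := fred_factor' ht0 h2
      set S' : ℕ → E := fun m => S m - ((k₁ : E) - k₂) * t⁻¹ ^ m with hS'
      have hS'eq : ∀ m, 0 < m → S' m = (S₁ m - k₁ * t⁻¹ ^ m) - (S₂ m - k₂ * t⁻¹ ^ m) := by
        intro m hm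
        simp only [hS', h3 m hm]; ring
      have hM : Mero S' := ⟨_, _, (fred_iff _).2 ⟨u₁, hu2, hu3, hu1⟩,
        (fred_iff _).2 ⟨u₂, hv2, hv3, hv1⟩, hS'eq⟩
      have hP' : (B : E⟦X⟧) * gen S' =
          ((P + Polynomial.C ((k₁ : E) - k₂) * B1 : Polynomial E) : E⟦X⟧) := by
        have hg := gen_geom t⁻¹
        have hinv : (C t : E⟦X⟧) * C t⁻¹ = 1 := by rw [← map_mul, mul_inv_cancel₀ ht0, map_one]
        have hBe : (B : E⟦X⟧) = (X - C t) * (B1 : E⟦X⟧) := by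
          rw [hB1, Polynomial.coe_mul, Polynomial.coe_sub, Polynomial.coe_X, Polynomial.coe_C]
        rw [hS', gen_sub, gen_smul, mul_sub, h, Polynomial.coe_add, Polynomial.coe_mul,
          Polynomial.coe_C, hBe]
        linear_combination (C ((k₁ : E) - k₂) * (B1 : E⟦X⟧) * C t) * hg +
          (C ((k₁ : E) - k₂) * (B1 : E⟦X⟧) * (1 + X * gen fun m => t⁻¹ ^ m)) * hinv
      have hev : Polynomial.eval t (P + Polynomial.C ((k₁ : E) - k₂) * B1) = 0 := by
        have hG : Entire (d⁄dX E u₂ * u₁ - d⁄dX E u₁ * u₂) :=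
          (hv1.derivative.mul hu1).sub (hu1.derivative.mul hv1)
        have h4 : ((P + Polynomial.C ((k₁ : E) - k₂) * B1 : Polynomial E) : E⟦X⟧) * (u₁ * u₂) =
            (B : E⟦X⟧) * (d⁄dX E u₂ * u₁ - d⁄dX E u₁ * u₂) := by
          rw [← hP', gen_congr hS'eq, gen_sub, hu3, hv3]; ring
        have h5 := congrArg (fun f => ev f t) h4
        simp only [ev_mul (Entire.coe _) (hu1.mul hv1), ev_mul hu1 hv1, ev_mul (Entire.coe _) hG,
          ev_coe] at h5
        rw [ht, zero_mul] at h5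
        exact (mul_eq_zero.1 h5).resolve_right (mul_ne_zero hu4 hv4)
      obtain ⟨P1, hP1⟩ := hcancel S' _ hP' hev
      obtain ⟨ν, hν0, hν⟩ := ih hM hB1ne hP1 hdeg
      refine ⟨ν + Finsupp.single t⁻¹ ((k₁ : ℤ) - k₂), ?_, fun m hm => ?_⟩
      · rw [Finsupp.add_apply, hν0, Finsupp.single_eq_of_ne (inv_ne_zero ht0).symm, add_zero]
      · rw [Finsupp.sum_add_index' (by simp) (fun a b c => by push_cast; ring),
          Finsupp.sum_single_index (by simp), ← hν m hm]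
        simp only [hS']
        push_cast
        ring

end eval

end Cfsg.Agent.DL.Dw
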