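import Cfsg.Agent.DL.Iface
import Cfsg.Agent.DL.Dw.Trace

/-!
# The averaged Dwork operator (helper89)
-/

set_option autoImplicit false

namespace Cfsg.Agent.DL.Dw

open MvPolynomial Filter Topology

variable {I : Type*} [Fintype I] [DecidableEq I]

section alg

variable {E : Type*} [Field E]

/-- the product of the Frobenius twists -/
noncomputable def hpow (q : ℕ) (G : MvPolynomial I E) (m : ℕ) : MvPolynomial I E :=
  ∏ i ∈ Finset.range m, expand (q ^ i) G

omit [Fintype I] [DecidableEq I] in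
theorem hpow_succ (q : ℕ) (G : MvPolynomial I E) (m : ℕ) :
    hpow q G (m + 1) = expand (q ^ m) G * hpow q G m := by
  rw [hpow, Finset.prod_range_succ, mul_comm]; rfl

omit [Fintype I] [DecidableEq I] in
theorem hpow_one (q : ℕ) (G : MvPolynomial I E) : hpow q G 1 = G := by
  simp [hpow]

omit [Fintype I] [DecidableEq I] in
theorem totalDegree_hpow {q : ℕ} (hq : 1 < q) {G : MvPolynomial I E} {L : ℕ} (hL : G.totalDegree ≤ L)
    (m : ℕ) : (hpow q G m).totalDegree ≤ (q ^ m - 1) * L := by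
  induction m with
  | zero => simp [hpow]
  | succ m ih =>
    rw [hpow_succ]
    refine (totalDegree_mul _ _).trans ?_
    rw [totalDegree_expand]
    have h1 : G.totalDegree * q ^ m ≤ L * q ^ m := Nat.mul_le_mul_right _ hL
    have h2 : 1 ≤ q ^ m := Nat.one_le_pow _ _ (by omega)
    have h3 : q ^ m * 2 ≤ q ^ (m + 1) := by rw [pow_succ]; exact Nat.mul_le_mul_left _ hq
    calc G.totalDegree * q ^ m + (hpow q G m).totalDegree ≤ L * q ^ m + (q ^ m - 1) * L := by omega
      _ = (q ^ m + (q ^ m - 1)) * L := by ring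
      _ ≤ (q ^ (m + 1) - 1) * L := Nat.mul_le_mul_right _ (by omega)

omit [Fintype I] [DecidableEq I] in
theorem rename_hpow {q : ℕ} {G : MvPolynomial I E} {g : I → I} (hg : rename g G = G) (m : ℕ) :
    rename g (hpow q G m) = hpow q G m := by
  simp only [hpow, map_prod, rename_expand, hg]

omit [Fintype I] [DecidableEq I] in
theorem eval_hpow (q : ℕ) (G : MvPolynomial I E) (m : ℕ) (z : I → E) :
    eval z (hpow q G m) = ∏ i ∈ Finset.range m, eval (fun j => z j ^ q ^ i) G := by
  simp only [hpow, map_prod, eval_expand]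
  rfl

omit [Fintype I] in
theorem coeff_expand_mul {Q : ℕ} (hQ : Q ≠ 0) (g f : MvPolynomial I E) (u : I →₀ ℕ)
    (T : Finset (I →₀ ℕ)) (hT : ∀ w, coeff (Q • w) f ≠ 0 → w ∈ T) :
    ∑ w ∈ T, coeff u (g * monomial w 1) * coeff (Q • w) f = coeff (Q • u) (expand Q g * f) := by
  induction g using MvPolynomial.induction_on' with
  | monomial a c =>
    rw [expand_monomial, coeff_monomial_mul']
    have h0 : Finsupp.mapRange (fun x => Q * x) (by simp) a = Q • a := by ext i; simp
    simp only [monomial_mul, coeff_monomial, mul_one]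
    by_cases h : a ≤ u
    · have h1 : Q • a ≤ Q • u := fun i => by simpa using Nat.mul_le_mul_left Q (h i)
      have h2 : Q • u - Q • a = Q • (u - a) := by ext i; simp [Nat.mul_sub]
      rw [if_pos h1, h2, Finset.sum_eq_single (u - a), if_pos (add_tsub_cancel_of_le h)]
      · intro w _ hw
        rw [if_neg, zero_mul]
        rintro rfl
        exact hw (add_tsub_cancel_left a w).symm
      · intro h3
        rw [not_not.1 (mt (hT _) h3), mul_zero]
    · have h1 : ¬ Q • a ≤ Q • u := fun h1 => h fun i => by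
        have := h1 i
        simp only [Finsupp.coe_smul, Pi.smul_apply, smul_eq_mul] at this
        exact Nat.le_of_mul_le_mul_left this (Nat.pos_of_ne_zero hQ)
      rw [if_neg h1]
      refine Finset.sum_eq_zero fun w _ => ?_
      rw [if_neg, zero_mul]
      rintro rfl
      exact h le_self_add
  | add p q hp hq =>
    simp only [add_mul, coeff_add, map_add, Finset.sum_add_distrib, hp, hq]

omit [Fintype I] [DecidableEq I] in
theorem coeff_act {h : MvPolynomial I E} {g : Equiv.Perm I} (hg : rename g h = h) (Q : ℕ)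
    (u v : I →₀ ℕ) :
    coeff (Q • act g u) (h * monomial (act g v) 1) = coeff (Q • u) (h * monomial v 1) := by
  have h1 : Q • act g u = Finsupp.mapDomain g (Q • u) := by
    rw [← Finsupp.equivMapDomain_eq_mapDomain]; ext i; rfl
  have h2 : h * monomial (act g v) (1 : E) = rename g (h * monomial v 1) := by
    rw [map_mul, hg, rename_monomial, act, Finsupp.equivMapDomain_eq_mapDomain]
  rw [h1, h2, coeff_rename_mapDomain _ g.injective]

theorem act_mem_UF {L : ℕ} {S S' : Finset I} {g : Equiv.Perm I} (h : ∀ i, i ∈ S ↔ g i ∈ S')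
    {u : I →₀ ℕ} (hu : u ∈ UF L S) : act g u ∈ UF L S' := by
  rw [mem_UF] at hu ⊢
  refine ⟨by rw [degree_act]; exact hu.1, fun i hi => hu.2 _ ?_⟩
  rw [h]; simpa using hi

theorem sum_UF_act {L : ℕ} {S S' : Finset I} {g : Equiv.Perm I} (h : ∀ i, i ∈ S ↔ g i ∈ S')
    (f : (I →₀ ℕ) → E) : ∑ u ∈ UF L S, f (act g u) = ∑ u ∈ UF L S', f u := by
  have h' : ∀ i, i ∈ S' ↔ g⁻¹ i ∈ S := fun i => by rw [h]; simp
  refine Finset.sum_nbij' (act g) (act g⁻¹) (fun u hu => act_mem_UF h hu)
    (fun u hu => act_mem_UF h' hu) (fun u _ => ?_) (fun u _ => ?_) fun _ _ => rfl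
  · rw [← act_mul, inv_mul_cancel, act_one]
  · rw [← act_mul, mul_inv_cancel, act_one]

theorem tw_conj {h : MvPolynomial I E} {g : Equiv.Perm I} (hg : rename g h = h) (Q : ℕ)
    (σ : Equiv.Perm I) (L : ℕ) {S S' : Finset I} (hS : ∀ i, i ∈ S ↔ g i ∈ S') :
    tw h Q (g * σ * g⁻¹) L S' = tw h Q σ L S := by
  rw [tw, tw, ← sum_UF_act hS]
  refine Finset.sum_congr rfl fun u _ => ?_
  rw [← act_mul, inv_mul_cancel_right, act_mul, coeff_act hg]

omit [Fintype I] [DecidableEq I] in
theorem degree_le_of_coeff {h : MvPolynomial I E} {w v : I →₀ ℕ}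
    (hw : coeff w (h * monomial v 1) ≠ 0) :
    v ≤ w ∧ Finsupp.degree w ≤ h.totalDegree + Finsupp.degree v := by
  classical
  rw [coeff_mul_monomial'] at hw
  split_ifs at hw with h1
  · refine ⟨h1, ?_⟩
    have h2 : w - v ∈ h.support := by
      rw [mem_support_iff]; simpa using hw
    have h3 : Finsupp.degree (w - v) ≤ h.totalDegree := by
      simpa [Finsupp.degree_apply, Finsupp.sum] using le_totalDegree h2
    have h4 := congrArg Finsupp.degree (tsub_add_cancel_of_le h1)
    rw [map_add] at h4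
    omega
  · exact absurd rfl hw

theorem tw_indep {h : MvPolynomial I E} {Q : ℕ} (hQ : 1 < Q) (σ : Equiv.Perm I) {L L' : ℕ}
    (hL : h.totalDegree ≤ (Q - 1) * L) (hLL : L ≤ L') (S : Finset I) :
    tw h Q σ L S = tw h Q σ L' S := by
  refine Finset.sum_subset (fun u hu => ?_) fun u hu hu' => ?_
  · rw [mem_UF] at hu ⊢
    exact ⟨hu.1.trans hLL, hu.2⟩
  · by_contra h0
    have h1 := (degree_le_of_coeff h0).2
    rw [degree_act, map_nsmul, smul_eq_mul] at h1
    rw [mem_UF] at hu hu'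
    refine hu' ⟨?_, hu.2⟩
    obtain ⟨N, rfl⟩ : ∃ N, Q = N + 1 := ⟨Q - 1, by omega⟩
    rw [Nat.add_sub_cancel] at hL
    have h3 : N * Finsupp.degree u ≤ N * L := by linarith
    exact Nat.le_of_mul_le_mul_left h3 (by omega)

theorem tw_sub (h h' : MvPolynomial I E) (Q : ℕ) (σ : Equiv.Perm I) (L : ℕ) (S : Finset I) :
    tw h Q σ L S - tw h' Q σ L S = tw (h - h') Q σ L S := by
  simp only [tw, sub_mul, coeff_sub, Finset.sum_sub_distrib]

theorem step_mul {G h : MvPolynomial I E} {σ : Equiv.Perm I} (hσ : rename σ h = h) {q Q L : ℕ}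
    (hQ : 0 < Q) (hL : h.totalDegree ≤ (Q - 1) * L) {S : Finset I} (hS : ∀ i, i ∈ S ↔ σ i ∈ S)
    (u : I →₀ ℕ) {v : I →₀ ℕ} (hv : v ∈ UF L S) :
    ∑ w ∈ UF L S, coeff (q • u) (G * monomial (act σ w) 1) * coeff (Q • w) (h * monomial v 1) =
      coeff ((Q * q) • u) (expand Q G * h * monomial (act σ v) 1) := by
  have h1 := sum_UF_act (L := L) hS fun w =>
    coeff (q • u) (G * monomial w 1) * coeff (Q • w) (h * monomial (act σ v) 1)
  simp only [coeff_act hσ] at h1
  rw [h1, coeff_expand_mul hQ.ne', mul_smul, mul_assoc]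
  intro w hw
  obtain ⟨h2, h3⟩ := degree_le_of_coeff hw
  have h4 := mem_UF.1 (act_mem_UF hS hv)
  rw [map_nsmul, smul_eq_mul] at h3
  refine mem_UF.2 ⟨?_, fun i hi => ?_⟩
  · obtain ⟨N, rfl⟩ : ∃ N, Q = N + 1 := ⟨Q - 1, by omega⟩
    rw [Nat.add_sub_cancel] at hL
    have h5 : (N + 1) * Finsupp.degree w ≤ (N + 1) * L := by linarith [h4.1]
    exact Nat.le_of_mul_le_mul_left h5 (by omega)
  · have h5 := (h4.2 i hi).trans (h2 i)
    simp only [Finsupp.coe_smul, Pi.smul_apply, smul_eq_mul] at h5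
    exact Nat.pos_of_ne_zero fun h0 => by rw [h0] at h5; simp at h5

variable {H : Type*} [Group H] [Fintype H]

/-- the averaged Dwork matrix -/
noncomputable def avgMat (π : H →* Equiv.Perm I) (ε : H → E) (h : MvPolynomial I E) (Q L : ℕ)
    (S : Finset I) : Matrix (UF L S) (UF L S) E := fun u v =>
  (Fintype.card H : E)⁻¹ * ∑ κ, ε κ * coeff (Q • u.1) (h * monomial (act (π κ) v.1) 1)

theorem trace_avgMat (π : H →* Equiv.Perm I) (ε : H → E) (h : MvPolynomial I E) (Q L : ℕ)
    (S : Finset I) : (avgMat π ε h Q L S).trace =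
      (Fintype.card H : E)⁻¹ * ∑ κ, ε κ * tw h Q (π κ) L S := by
  simp only [Matrix.trace, Matrix.diag_apply, avgMat, tw, Finset.mul_sum]
  rw [Finset.sum_comm]
  refine Finset.sum_congr rfl fun κ _ => ?_
  exact Finset.sum_coe_sort (UF L S) fun u =>
    (Fintype.card H : E)⁻¹ * (ε κ * coeff (Q • u) (h * monomial (act (π κ) u) 1))

theorem avgMat_mul [CharZero E] {π : H →* Equiv.Perm I} {ε : H → E}
    (hε : ∀ a b, ε (a * b) = ε a * ε b) {G h : MvPolynomial I E} (hh : ∀ κ, rename (π κ) h = h)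
    {q Q L : ℕ} (hQ : 0 < Q) (hL : h.totalDegree ≤ (Q - 1) * L) {S : Finset I}
    (hS : ∀ κ i, i ∈ S ↔ π κ i ∈ S) :
    avgMat π ε G q L S * avgMat π ε h Q L S = avgMat π ε (expand Q G * h) (Q * q) L S := by
  ext u v
  have hc : (Fintype.card H : E) ≠ 0 := Nat.cast_ne_zero.2 Fintype.card_ne_zero
  have h1 : ∀ κ κ' : H, ∑ w : UF L S, coeff (q • u.1) (G * monomial (act (π κ) w.1) 1) *
      coeff (Q • w.1) (h * monomial (act (π κ') v.1) 1) =
      coeff ((Q * q) • u.1) (expand Q G * h * monomial (act (π (κ * κ')) v.1) 1) := by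
    intro κ κ'
    rw [map_mul, act_mul, ← step_mul (hh κ) hQ hL (hS κ) u.1 (act_mem_UF (hS κ') v.2)]
    exact Finset.sum_coe_sort (UF L S) fun w => coeff (q • u.1) (G * monomial (act (π κ) w) 1) *
      coeff (Q • w) (h * monomial (act (π κ') v.1) 1)
  have h2 : ∀ κ : H, ∑ κ' : H, ε (κ * κ') *
      coeff ((Q * q) • u.1) (expand Q G * h * monomial (act (π (κ * κ')) v.1) 1) =
      ∑ κ' : H, ε κ' * coeff ((Q * q) • u.1) (expand Q G * h * monomial (act (π κ') v.1) 1) :=
    fun κ => Equiv.sum_comp (Equiv.mulLeft κ) fun κ' =>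
      ε κ' * coeff ((Q * q) • u.1) (expand Q G * h * monomial (act (π κ') v.1) 1)
  calc (avgMat π ε G q L S * avgMat π ε h Q L S) u v
      = (Fintype.card H : E)⁻¹ * (Fintype.card H : E)⁻¹ * ∑ κ : H, ∑ κ' : H, ε (κ * κ') *
          coeff ((Q * q) • u.1) (expand Q G * h * monomial (act (π (κ * κ')) v.1) 1) := by
        simp only [Matrix.mul_apply, avgMat, ← h1, hε, Finset.mul_sum, Finset.sum_mul]
        rw [Finset.sum_comm]
        conv_rhs => rw [Finset.sum_comm]
        refine Finset.sum_congr rfl fun κ' _ => ?_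
        rw [Finset.sum_comm]
        exact Finset.sum_congr rfl fun κ _ => Finset.sum_congr rfl fun w _ => by ring
    _ = _ := by
        simp only [h2, Finset.sum_const, Finset.card_univ, nsmul_eq_mul, avgMat]
        field_simp

theorem avgMat_pow [CharZero E] {π : H →* Equiv.Perm I} {ε : H → E}
    (hε : ∀ a b, ε (a * b) = ε a * ε b) {G : MvPolynomial I E} (hG : ∀ κ, rename (π κ) G = G)
    {q L : ℕ} (hq : 1 < q) (hL : G.totalDegree ≤ L) {S : Finset I}
    (hS : ∀ κ i, i ∈ S ↔ π κ i ∈ S) (m : ℕ) :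
    avgMat π ε G q L S ^ (m + 1) = avgMat π ε (hpow q G (m + 1)) (q ^ (m + 1)) L S := by
  induction m with
  | zero => rw [zero_add, pow_one, pow_one, hpow_one]
  | succ m ih =>
    rw [pow_succ', ih, avgMat_mul hε (fun κ => rename_hpow (hG κ) _) (by positivity)
      (totalDegree_hpow hq hL _) hS, ← hpow_succ, ← pow_succ]

end alg

section an

variable {E : Type*} [NormedField E] [IsUltrametricDist E]

omit [DecidableEq I] in
theorem exists_prod_bd {ρ : ℝ} (hρ : 1 < ρ) (c : ℝ) (hc : 0 ≤ c) :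
    ∃ C : ℝ, ∀ J : Finset (I →₀ ℕ), ∏ u ∈ J, c / ρ ^ Finsupp.degree u ≤ C := by
  classical
  obtain ⟨D, hD⟩ := pow_unbounded_of_one_lt c hρ
  set T := (Finsupp.finite_of_degree_le (σ := I) D).toFinset with hT
  refine ⟨(max 1 c) ^ T.card, fun J => ?_⟩
  have hρ0 : 0 < ρ := by linarith
  rw [← Finset.prod_filter_mul_prod_filter_not J fun u => u ∈ T]
  have h1 : ∏ u ∈ J.filter (fun u => u ∈ T), c / ρ ^ Finsupp.degree u ≤ (max 1 c) ^ T.card := by
    refine (Finset.prod_le_prod (g := fun _ => max 1 c) (fun u _ => by positivity)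
      fun u _ => ?_).trans ?_
    · exact (div_le_self hc (one_le_pow₀ hρ.le)).trans (le_max_right _ _)
    · rw [Finset.prod_const]
      exact pow_le_pow_right₀ (le_max_left _ _)
        (Finset.card_le_card fun u hu => (Finset.mem_filter.1 hu).2)
  have h2 : ∏ u ∈ J.filter (fun u => u ∉ T), c / ρ ^ Finsupp.degree u ≤ 1 := by
    refine Finset.prod_le_one (fun u _ => by positivity) fun u hu => ?_
    have h3 : D ≤ Finsupp.degree u := by
      have := (Finset.mem_filter.1 hu).2
      simp only [hT, Set.Finite.mem_toFinset, Set.mem_ofPred_eq, not_le] at this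
      exact this.le
    rw [div_le_one (by positivity)]
    exact hD.le.trans (pow_le_pow_right₀ hρ.le h3)
  exact (mul_le_mul h1 h2 (Finset.prod_nonneg fun u _ => by positivity) (by positivity)).trans_eq
    (mul_one _)

omit [Fintype I] [IsUltrametricDist E] in
theorem norm_coeff_mul_monomial {ρ C : ℝ} (hρ : 0 ≤ ρ) {G : MvPolynomial I E} (hG : Bd ρ C G)
    (w v : I →₀ ℕ) :
    ‖coeff w (G * monomial v 1)‖ * ρ ^ Finsupp.degree w ≤ C * ρ ^ Finsupp.degree v := by
  rw [coeff_mul_monomial']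
  split_ifs with h
  · have h4 := congrArg Finsupp.degree (tsub_add_cancel_of_le h)
    rw [map_add] at h4
    rw [mul_one, ← h4, pow_add, ← mul_assoc]
    exact mul_le_mul_of_nonneg_right (hG _) (by positivity)
  · rw [norm_zero, zero_mul]
    exact mul_nonneg hG.nonneg (by positivity)

theorem norm_tw_le {C : ℝ} {h : MvPolynomial I E} (hh : Bd 1 C h) (Q : ℕ) (σ : Equiv.Perm I)
    (L : ℕ) (S : Finset I) : ‖tw h Q σ L S‖ ≤ C := by
  refine IsUltrametricDist.norm_sum_le_of_forall_le_of_nonneg hh.nonneg fun u _ => ?_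
  simpa using norm_coeff_mul_monomial zero_le_one hh (Q • u) (act σ u)

omit [Fintype I] [DecidableEq I] in
theorem bd_hpow {q : ℕ} (hq : q ≠ 0) {G : MvPolynomial I E} (hG : Bd 1 1 G) (m : ℕ) :
    Bd 1 1 (hpow q G m) := by
  induction m with
  | zero => simpa [hpow] using Bd.one (I := I) (E := E) zero_le_one
  | succ m ih =>
    rw [hpow_succ]
    simpa using (hG.expand (pow_ne_zero m hq)).mul zero_le_one ih

omit [Fintype I] [DecidableEq I] in
theorem bd_hpow_sub {q : ℕ} (hq : q ≠ 0) {G G' : MvPolynomial I E} (hG : Bd 1 1 G) (hG' : Bd 1 1 G')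
    {η : ℝ} (h : Bd 1 η (G - G')) (m : ℕ) : Bd 1 η (hpow q G m - hpow q G' m) := by
  induction m with
  | zero => simpa [hpow] using Bd.zero (I := I) (E := E) (ρ := 1) h.nonneg
  | succ m ih =>
    have e : hpow q G (m + 1) - hpow q G' (m + 1) = expand (q ^ m) (G - G') * hpow q G m +
        expand (q ^ m) G' * (hpow q G m - hpow q G' m) := by
      rw [hpow_succ, hpow_succ, map_sub]; ring
    rw [e]
    refine Bd.add zero_le_one ?_ ?_
    · simpa using (h.expand (pow_ne_zero m hq)).mul zero_le_one (bd_hpow hq hG m)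
    · simpa using (hG'.expand (pow_ne_zero m hq)).mul zero_le_one ih

theorem exists_tw_lim [CompleteSpace E] {q : ℕ} (hq : 1 < q) {δ : ℝ} (hδ : δ < 1)
    {G : ℕ → MvPolynomial I E} (hG : ∀ N, Bd 1 1 (G N)) (hGG : ∀ N, Bd 1 (δ ^ N) (G (N + 1) - G N))
    {m : ℕ} (hm : 0 < m) (σ : Equiv.Perm I) (S : Finset I) :
    ∃ t, Tendsto (fun N => tw (hpow q (G N) m) (q ^ m) σ (G N).totalDegree S) atTop (𝓝 t) := by
  refine cauchySeq_tendsto_of_complete (cauchySeq_of_le_geometric δ 1 hδ fun N => ?_)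
  have hQ : 1 < q ^ m := Nat.one_lt_pow hm.ne' hq
  rw [dist_comm, dist_eq_norm, one_mul,
    tw_indep hQ σ (totalDegree_hpow hq le_rfl m) (le_max_left _ (G N).totalDegree),
    tw_indep hQ σ (totalDegree_hpow hq le_rfl m) (le_max_right (G (N + 1)).totalDegree _), tw_sub]
  exact norm_tw_le (bd_hpow_sub (by omega) (hG _) (hG _) (hGG N) m) _ _ _ _

variable {H : Type*} [Group H] [Fintype H]

theorem fred_block [CharZero E] {π : H →* Equiv.Perm I} {ε : H → E}
    (hε : ∀ a b, ε (a * b) = ε a * ε b) (hε1 : ∀ a, ‖ε a‖ ≤ 1) {q : ℕ} (hq : 1 < q) {ρ : ℝ}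
    (hρ : 1 < ρ) {G : ℕ → MvPolynomial I E} (hG : ∀ N, Bd ρ 1 (G N))
    (hinv : ∀ κ N, rename (π κ) (G N) = G N) {S : Finset I} (hS : ∀ κ i, i ∈ S ↔ π κ i ∈ S)
    {t : ℕ → H → E} (ht : ∀ m, 0 < m → ∀ κ, Tendsto
      (fun N => tw (hpow q (G N) m) (q ^ m) (π κ) (G N).totalDegree S) atTop (𝓝 (t m κ))) :
    Fred fun m => (Fintype.card H : E)⁻¹ * ∑ κ, ε κ * t m κ := by
  set c : ℝ := ‖(Fintype.card H : E)⁻¹‖ with hc
  have hc0 : 0 ≤ c := norm_nonneg _
  have hρ0 : 0 < ρ := by linarith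
  choose C hC using fun R : ℝ => exists_prod_bd (I := I) hρ (c * max R 0) (by positivity)
  refine ⟨C, FredBd.of_tendsto (l := atTop) (S := fun N m => (Fintype.card H : E)⁻¹ *
    ∑ κ, ε κ * tw (hpow q (G N) m) (q ^ m) (π κ) (G N).totalDegree S) (fun m hm => ?_)
    (Eventually.of_forall fun N => ?_)⟩
  · exact (tendsto_finsetSum _ fun κ _ => (ht m hm κ).const_mul _).const_mul _
  · refine (fredBd_trace (avgMat π ε (G N) q (G N).totalDegree S)
      (fun u => c / ρ ^ Finsupp.degree u.1) (fun u => ρ ^ Finsupp.degree u.1)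
      (fun u => by positivity) (fun u => by positivity) (fun u v => ?_) C fun R hR J => ?_).congr
      fun m hm => ?_
    · have h1 : ‖∑ κ, ε κ * coeff (q • u.1) (G N * monomial (act (π κ) v.1) 1)‖ ≤
          ρ ^ Finsupp.degree v.1 / ρ ^ (2 * Finsupp.degree u.1) := by
        refine IsUltrametricDist.norm_sum_le_of_forall_le_of_nonneg (by positivity) fun κ _ => ?_
        have h2 := norm_coeff_mul_monomial hρ0.le (hG N) (q • u.1) (act (π κ) v.1)
        rw [degree_act, one_mul, map_nsmul, smul_eq_mul] at h2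
        rw [norm_mul, le_div_iff₀ (by positivity)]
        refine le_trans ?_ h2
        exact mul_le_mul (mul_le_of_le_one_left (norm_nonneg _) (hε1 κ))
          (pow_le_pow_right₀ hρ.le (Nat.mul_le_mul_right _ hq)) (by positivity) (norm_nonneg _)
      rw [avgMat, norm_mul, ← hc]
      calc _ ≤ c * (ρ ^ Finsupp.degree v.1 / ρ ^ (2 * Finsupp.degree u.1)) *
            ρ ^ Finsupp.degree u.1 := by gcongr
        _ = _ := by rw [two_mul, pow_add]; field_simp
    · have h1 := hC R (J.map (Function.Embedding.subtype _))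
      rw [Finset.prod_map, max_eq_left (by linarith : (0 : ℝ) ≤ R)] at h1
      refine le_of_eq_of_le (Finset.prod_congr rfl fun u _ => ?_) h1
      simp only [Function.Embedding.coe_subtype]
      ring
    · obtain ⟨n, rfl⟩ : ∃ n, m = n + 1 := ⟨m - 1, by omega⟩
      rw [avgMat_pow hε (fun κ => hinv κ N) hq le_rfl hS, trace_avgMat]

theorem mero_orbit_sum [CharZero E] {X : Type*} [Fintype X] [MulAction H X] (f : X → ℕ → E)
    (hf : ∀ g : H, ∀ x m, 0 < m → f (g • x) m = f x m)
    (h : ∀ x, Mero fun m => (Nat.card (MulAction.stabilizer H x) : E)⁻¹ * f x m) :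
    Mero fun m => (Fintype.card H : E)⁻¹ * ∑ x, f x m := by
  classical
  have : Fintype (MulAction.orbitRel.Quotient H X) := Fintype.ofFinite _
  refine (Mero.sum Finset.univ _ fun (O : MulAction.orbitRel.Quotient H X) _ =>
    h O.out).congr fun m hm => ?_
  rw [← Finset.sum_fiberwise Finset.univ
    (fun x => (Quotient.mk _ x : MulAction.orbitRel.Quotient H X)), Finset.mul_sum]
  refine Finset.sum_congr rfl fun O _ => ?_
  have h1 : ∀ x, (Quotient.mk _ x : MulAction.orbitRel.Quotient H X) = O ↔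
      x ∈ MulAction.orbit H O.out := fun x => by
    conv_lhs => rw [← O.out_eq]
    exact Quotient.eq
  rw [Finset.sum_congr rfl (g := fun _ => f O.out m) fun x hx => by
    obtain ⟨g, rfl⟩ := (h1 x).1 (Finset.mem_filter.1 hx).2
    exact hf g _ m hm]
  have h2 : (Finset.univ.filter fun x =>
      (Quotient.mk _ x : MulAction.orbitRel.Quotient H X) = O).card =
      Nat.card (MulAction.orbit H O.out) := by
    rw [← Nat.card_eq_finsetCard]
    exact Nat.card_congr (Equiv.subtypeEquivRight fun x => by simp [h1])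
  have h3 : Nat.card (MulAction.orbit H O.out) * Nat.card (MulAction.stabilizer H O.out) =
      Fintype.card H := by
    rw [← Nat.card_prod, ← Nat.card_eq_fintype_card]
    exact Nat.card_congr (MulAction.orbitProdStabilizerEquivGroup H _)
  have h4 : (Nat.card (MulAction.stabilizer H O.out) : E) ≠ 0 := Nat.cast_ne_zero.2 Nat.card_pos.ne'
  have h5 : (Nat.card (MulAction.orbit H O.out) : E) ≠ 0 := by
    refine Nat.cast_ne_zero.2 fun h0 => ?_
    rw [h0, zero_mul] at h3
    exact Fintype.card_ne_zero h3.symm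
  rw [Finset.sum_const, h2, ← h3, nsmul_eq_mul]
  push_cast
  field_simp

end an

open scoped Pointwise in
/-- **Box AVG**. -/
theorem boxAvg : Box.Avg := by
  intro p _ k _ _ _ τ hτ s hs K I _ _ _ _ π μ ρ δ hρ _ hδ G hG hGG hinv a ha
  classical
  have hp : p.Prime := Fact.out
  have hq : 1 < p ^ s := Nat.one_lt_pow hs.ne' hp.one_lt
  have hG1 : ∀ N, Bd 1 1 (G N) := fun N => (hG N).of_one_le hρ.le
  have hlim : ∀ m (σ : Equiv.Perm I) (S : Finset I), ∃ t, 0 < m → Tendsto (fun N =>
      tw (hpow (p ^ s) (G N) m) ((p ^ s) ^ m) σ (G N).totalDegree S) atTop (𝓝 t) := by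
    intro m σ S
    by_cases hm : 0 < m
    · obtain ⟨t, ht⟩ := exists_tw_lim hq hδ hG1 hGG hm σ S
      exact ⟨t, fun _ => ht⟩
    · exact ⟨0, fun h => absurd h hm⟩
  choose t ht using hlim
  letI : MulAction K I := MulAction.compHom I π
  have hsm : ∀ (g : K) (S : Finset I) i, i ∈ S ↔ π g i ∈ g • S := fun g S i =>
    (Finset.smul_mem_smul_finset_iff g).symm
  have hμ : ∀ κ, ‖μ κ‖ = 1 := fun κ => by
    rw [← pow_eq_one_iff_of_nonneg (norm_nonneg _) (Fintype.card_ne_zero (α := K)), ← norm_pow,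
      ← map_pow, pow_card_eq_one, map_one, norm_one]
  refine (mero_orbit_sum (H := K) (fun (S : Finset I) m => (-1) ^ S.card *
    ((((p : ℂ_[p]) ^ s) ^ (Fintype.card I - S.card)) ^ m *
      ∑ κ, μ κ * (sg S (π κ) : ℂ_[p]) * t m (π κ) S)) (fun g S m hm => ?_) fun S => ?_).congr
    fun m hm => ?_
  · rw [Finset.card_smul_finset, ← Equiv.sum_comp (MulAut.conj g).toEquiv]
    congr 2
    refine Finset.sum_congr rfl fun κ _ => ?_
    have h1 : π ((MulAut.conj g).toEquiv κ) = π g * π κ * (π g)⁻¹ := by simp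
    have h2 : μ ((MulAut.conj g).toEquiv κ) = μ κ := by
      have : μ ((MulAut.conj g).toEquiv κ) = μ g * μ κ * μ g⁻¹ := by simp
      rw [this, mul_right_comm, ← map_mul, mul_inv_cancel, map_one, one_mul]
    rw [h1, h2, sg_conj (π g) (hsm g S)]
    congr 1
    refine tendsto_nhds_unique (ht m _ _ hm) ((ht m _ _ hm).congr fun N => ?_)
    rw [tw_conj (rename_hpow (hinv g N) m) _ _ _ (hsm g S)]
  · have hS : ∀ (κ : MulAction.stabilizer K S) i, i ∈ S ↔ π κ i ∈ S := fun κ i => by
      rw [hsm κ S i, κ.2]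
    have h1 := fred_block (π := π.comp (MulAction.stabilizer K S).subtype)
      (ε := fun κ => μ κ * (sg S (π κ) : ℂ_[p])) (fun a b => ?_) (fun a => ?_) hq hρ hG
      (fun κ N => hinv κ N) hS (t := fun m κ => t m (π κ) S) fun m hm κ => ht m _ _ hm
    · refine ((h1.mero.geom_mul (((p : ℂ_[p]) ^ s) ^ (Fintype.card I - S.card))).zsmul
        ((-1) ^ S.card)).congr fun m _ => ?_
      have h2 : ∑ κ : MulAction.stabilizer K S, μ κ * (sg S (π κ) : ℂ_[p]) * t m (π κ) S =
          ∑ κ, μ κ * (sg S (π κ) : ℂ_[p]) * t m (π κ) S := by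
        rw [← Finset.sum_subtype (Finset.univ.filter fun κ => κ ∈ MulAction.stabilizer K S)
          (by simp) fun κ => μ κ * (sg S (π κ) : ℂ_[p]) * t m (π κ) S]
        refine Finset.sum_subset (Finset.filter_subset _ _) fun κ _ hκ => ?_
        have h3 : ¬ ∀ i ∈ S, π κ i ∈ S := fun h3 => hκ (Finset.mem_filter.2 ⟨Finset.mem_univ _,
          Finset.eq_of_subset_of_card_le (fun j hj => by
            obtain ⟨i, hi, rfl⟩ := Finset.mem_smul_finset.1 hj
            exact h3 i hi) (Finset.card_smul_finset κ S).ge⟩)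
        push Not at h3
        obtain ⟨i, hi, hi'⟩ := h3
        rw [sg_eq_zero hi hi', Int.cast_zero, mul_zero, zero_mul]
      rw [h2, Nat.card_eq_fintype_card]
      push_cast
      ring
    · rw [Subgroup.coe_mul, map_mul, map_mul, sg_mul fun i hi => (hS b i).1 hi]
      push_cast
      ring
    · rw [norm_mul, hμ, one_mul]
      exact IsUltrametricDist.norm_intCast_le_one _ _
  · congr 1
    have h1 : ∀ κ, a m κ = ∑ S : Finset I, (-1) ^ S.card * (sg S (π κ) : ℂ_[p]) *
        ((p : ℂ_[p]) ^ (s * m)) ^ (Fintype.card I - S.card) * t m (π κ) S := fun κ => by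
      refine tendsto_nhds_unique (ha m hm κ) ((tendsto_finsetSum _ fun S _ =>
        (ht m (π κ) S hm).const_mul _).congr fun N => ?_)
      have h2 := trace_formula (σ := π κ) hp (Nat.mul_pos hs hm) hτ.injective
        (L := (G N).totalDegree) (hpow (p ^ s) (G N) m)
        (by rw [pow_mul]; exact totalDegree_hpow hq le_rfl m)
      rw [← pow_mul, ← h2]
      simp only [eval_hpow]
    simp only [h1, Finset.mul_sum]
    rw [Finset.sum_comm]
    refine Finset.sum_congr rfl fun κ _ => Finset.sum_congr rfl fun S _ => ?_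
    ring

end Cfsg.Agent.DL.Dw
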