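import Mathlib

set_option autoImplicit false

open PowerSeries Filter Topology

namespace Cfsg.Agent.DL.Dw

section defs
variable {E : Type*} [NormedField E]

/-- `c` is the coefficient sequence of `exp (- ∑ S m t^m / m)`. -/
def Newton (S c : ℕ → E) : Prop :=
  c 0 = 1 ∧ ∀ n : ℕ, ((n : E) + 1) * c (n + 1) = - ∑ i ∈ Finset.range (n + 1), S (i + 1) * c (n - i)

/-- The Fredholm series of `S` is entire, with growth bounded by `C`. -/
def FredBd (C : ℝ → ℝ) (S : ℕ → E) : Prop :=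
  ∃ c, Newton S c ∧ ∀ R : ℝ, 1 ≤ R → ∀ j, ‖c j‖ * R ^ j ≤ C R

def Fred (S : ℕ → E) : Prop := ∃ C, FredBd C S

def Mero (S : ℕ → E) : Prop :=
  ∃ S₁ S₂, Fred S₁ ∧ Fred S₂ ∧ ∀ m, 0 < m → S m = S₁ m - S₂ m

/-- entire power series -/
def Entire (f : E⟦X⟧) : Prop :=
  ∀ R : ℝ, 1 ≤ R → ∃ C : ℝ, ∀ j, ‖coeff j f‖ * R ^ j ≤ C

/-- the shifted generating series `∑ S (i+1) t^i` -/
def gen (S : ℕ → E) : E⟦X⟧ := PowerSeries.mk fun i => S (i + 1)

theorem coeff_gen (S : ℕ → E) (i : ℕ) : coeff i (gen S) = S (i + 1) := by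
  simp [gen]

theorem gen_congr {S T : ℕ → E} (h : ∀ m, 0 < m → S m = T m) : gen S = gen T := by
  ext i; simp [coeff_gen, h]

theorem gen_add (S T : ℕ → E) : gen (fun m => S m + T m) = gen S + gen T := by
  ext i; simp [coeff_gen]

theorem gen_sub (S T : ℕ → E) : gen (fun m => S m - T m) = gen S - gen T := by
  ext i; simp [coeff_gen]

theorem gen_neg (S : ℕ → E) : gen (fun m => - S m) = - gen S := by
  ext i; simp [coeff_gen]

theorem gen_smul (a : E) (S : ℕ → E) : gen (fun m => a * S m) = C a * gen S := by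
  ext i; simp [coeff_gen]

theorem gen_sum {ι : Type*} (s : Finset ι) (S : ι → ℕ → E) :
    gen (fun m => ∑ i ∈ s, S i m) = ∑ i ∈ s, gen (S i) := by
  ext i; simp [coeff_gen]

theorem newton_iff (S : ℕ → E) (f : E⟦X⟧) :
    Newton S (fun j => coeff j f) ↔ coeff 0 f = 1 ∧ d⁄dX E f = - (gen S * f) := by
  unfold Newton
  refine and_congr Iff.rfl ?_
  constructor
  · intro h
    ext n
    rw [coeff_derivative, map_neg, coeff_mul, Finset.Nat.sum_antidiagonal_eq_sum_range_succ_mk,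
      mul_comm, h n]
    simp [coeff_gen]
  · intro h n
    have := congrArg (coeff n) h
    rw [coeff_derivative, map_neg, coeff_mul, Finset.Nat.sum_antidiagonal_eq_sum_range_succ_mk,
      mul_comm] at this
    simpa [coeff_gen] using this

theorem newton_iff_mk (S c : ℕ → E) :
    Newton S c ↔ coeff 0 (PowerSeries.mk c) = 1 ∧
      d⁄dX E (PowerSeries.mk c) = - (gen S * PowerSeries.mk c) := by
  rw [← newton_iff]
  simp

theorem Newton.congr {S T c : ℕ → E} (h : Newton S c) (hST : ∀ m, 0 < m → S m = T m) :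
    Newton T c := by
  rw [newton_iff_mk] at h ⊢
  rwa [← gen_congr hST]

theorem FredBd.congr {C : ℝ → ℝ} {S T : ℕ → E} (h : FredBd C S)
    (hST : ∀ m, 0 < m → S m = T m) : FredBd C T := by
  obtain ⟨c, h1, h2⟩ := h
  exact ⟨c, h1.congr hST, h2⟩

theorem FredBd.mono {C D : ℝ → ℝ} {S : ℕ → E} (h : FredBd C S)
    (hCD : ∀ R, 1 ≤ R → C R ≤ D R) : FredBd D S := by
  obtain ⟨c, h1, h2⟩ := h
  exact ⟨c, h1, fun R hR j => (h2 R hR j).trans (hCD R hR)⟩

theorem FredBd.fred {C : ℝ → ℝ} {S : ℕ → E} (h : FredBd C S) : Fred S := ⟨C, h⟩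

theorem Fred.congr {S T : ℕ → E} (h : Fred S) (hST : ∀ m, 0 < m → S m = T m) : Fred T := by
  obtain ⟨C, h⟩ := h
  exact ⟨C, h.congr hST⟩

theorem Mero.congr {S T : ℕ → E} (h : Mero S) (hST : ∀ m, 0 < m → S m = T m) : Mero T := by
  obtain ⟨S₁, S₂, h1, h2, h3⟩ := h
  exact ⟨S₁, S₂, h1, h2, fun m hm => (hST m hm).symm.trans (h3 m hm)⟩

theorem fred_iff (S : ℕ → E) :
    Fred S ↔ ∃ f : E⟦X⟧, coeff 0 f = 1 ∧ d⁄dX E f = - (gen S * f) ∧ Entire f := by
  constructor
  · rintro ⟨C, c, h1, h2⟩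
    rw [newton_iff_mk] at h1
    exact ⟨PowerSeries.mk c, h1.1, h1.2, fun R hR => ⟨C R, fun j => by simpa using h2 R hR j⟩⟩
  · rintro ⟨f, h1, h2, h3⟩
    classical
    choose! C hC using h3
    exact ⟨C, fun j => coeff j f, (newton_iff S f).2 ⟨h1, h2⟩, hC⟩

theorem Entire.zero : Entire (0 : E⟦X⟧) := fun R _ => ⟨0, fun j => by simp⟩

theorem Entire.neg {f : E⟦X⟧} (hf : Entire f) : Entire (-f) := fun R hR => by
  obtain ⟨C, hC⟩ := hf R hR
  exact ⟨C, fun j => by simpa using hC j⟩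

theorem Entire.add {f g : E⟦X⟧} (hf : Entire f) (hg : Entire g) : Entire (f + g) := fun R hR => by
  obtain ⟨C, hC⟩ := hf R hR
  obtain ⟨D, hD⟩ := hg R hR
  refine ⟨C + D, fun j => ?_⟩
  have h0 : 0 ≤ R ^ j := by positivity
  calc ‖coeff j (f + g)‖ * R ^ j ≤ (‖coeff j f‖ + ‖coeff j g‖) * R ^ j := by
        rw [map_add]; exact mul_le_mul_of_nonneg_right (norm_add_le _ _) h0
    _ ≤ C + D := by rw [add_mul]; exact add_le_add (hC j) (hD j)

theorem Entire.sub {f g : E⟦X⟧} (hf : Entire f) (hg : Entire g) : Entire (f - g) := by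
  rw [sub_eq_add_neg]; exact hf.add hg.neg

theorem Entire.sum {ι : Type*} (s : Finset ι) (f : ι → E⟦X⟧) (hf : ∀ i ∈ s, Entire (f i)) :
    Entire (∑ i ∈ s, f i) := by
  classical
  induction s using Finset.induction_on with
  | empty => simpa using Entire.zero
  | insert a s ha ih =>
    rw [Finset.sum_insert ha]
    exact (hf a (by simp)).add (ih fun i hi => hf i (by simp [hi]))

theorem Entire.coe (P : Polynomial E) : Entire (P : E⟦X⟧) := fun R hR => by
  refine ⟨∑ j ∈ P.support, ‖P.coeff j‖ * R ^ j, fun j => ?_⟩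
  rw [Polynomial.coeff_coe]
  by_cases hj : j ∈ P.support
  · exact Finset.single_le_sum (f := fun j => ‖P.coeff j‖ * R ^ j)
      (fun i _ => by positivity) hj
  · rw [Polynomial.notMem_support_iff.1 hj]
    simp only [norm_zero, zero_mul]
    exact Finset.sum_nonneg fun i _ => by positivity

theorem Entire.one : Entire (1 : E⟦X⟧) := by
  simpa using Entire.coe (1 : Polynomial E)

theorem Entire.C (a : E) : Entire (PowerSeries.C a : E⟦X⟧) := by
  simpa using Entire.coe (Polynomial.C a)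

theorem Entire.X : Entire (PowerSeries.X : E⟦X⟧) := by
  simpa using Entire.coe (Polynomial.X : Polynomial E)

end defs

section ultra
variable {E : Type*} [NormedField E] [IsUltrametricDist E]

theorem norm_coeff_mul_le {f g : E⟦X⟧} {R C D : ℝ} (hR : 0 ≤ R)
    (hC : ∀ j, ‖coeff j f‖ * R ^ j ≤ C) (hD : ∀ j, ‖coeff j g‖ * R ^ j ≤ D) (j : ℕ) :
    ‖coeff j (f * g)‖ * R ^ j ≤ C * D := by
  rw [coeff_mul]
  obtain ⟨x, hx, hle⟩ := IsUltrametricDist.exists_norm_finsetSum_le_of_nonempty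
    (t := Finset.HasAntidiagonal.antidiagonal j) ⟨(0, j), by simp⟩ (fun x => coeff x.1 f * coeff x.2 g)
  have hx' : x.1 + x.2 = j := Finset.HasAntidiagonal.mem_antidiagonal.1 hx
  have hC0 : 0 ≤ C := le_trans (by positivity) (hC 0)
  calc ‖∑ x ∈ Finset.HasAntidiagonal.antidiagonal j, coeff x.1 f * coeff x.2 g‖ * R ^ j
      ≤ ‖coeff x.1 f * coeff x.2 g‖ * R ^ j := mul_le_mul_of_nonneg_right hle (by positivity)
    _ = (‖coeff x.1 f‖ * R ^ x.1) * (‖coeff x.2 g‖ * R ^ x.2) := by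
        rw [norm_mul, ← hx', pow_add]; ring
    _ ≤ C * D := mul_le_mul (hC _) (hD _) (by positivity) hC0

theorem Entire.mul {f g : E⟦X⟧} (hf : Entire f) (hg : Entire g) : Entire (f * g) := fun R hR => by
  obtain ⟨C, hC⟩ := hf R hR
  obtain ⟨D, hD⟩ := hg R hR
  exact ⟨C * D, norm_coeff_mul_le (by linarith) hC hD⟩

theorem Entire.pow {f : E⟦X⟧} (hf : Entire f) (n : ℕ) : Entire (f ^ n) := by
  induction n with
  | zero => simpa using Entire.one
  | succ n ih => rw [pow_succ]; exact ih.mul hf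

theorem Entire.prod {ι : Type*} (s : Finset ι) (f : ι → E⟦X⟧) (hf : ∀ i ∈ s, Entire (f i)) :
    Entire (∏ i ∈ s, f i) := by
  classical
  induction s using Finset.induction_on with
  | empty => simpa using Entire.one
  | insert a s ha ih =>
    rw [Finset.prod_insert ha]
    exact (hf a (by simp)).mul (ih fun i hi => hf i (by simp [hi]))

theorem norm_coeff_derivative_le {f : E⟦X⟧} {R C : ℝ} (hR : 0 < R)
    (hC : ∀ j, ‖coeff j f‖ * R ^ j ≤ C) (j : ℕ) :
    ‖coeff j (d⁄dX E f)‖ * R ^ j ≤ C / R := by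
  rw [coeff_derivative, norm_mul, le_div_iff₀ hR]
  have h1 : ‖((j : E) + 1)‖ ≤ 1 := by
    have := IsUltrametricDist.norm_natCast_le_one E (j + 1)
    simpa using this
  calc ‖coeff (j + 1) f‖ * ‖((j : E) + 1)‖ * R ^ j * R
      = ‖((j : E) + 1)‖ * (‖coeff (j + 1) f‖ * R ^ (j + 1)) := by ring
    _ ≤ 1 * C := mul_le_mul h1 (hC _) (by positivity) zero_le_one
    _ = C := one_mul C

theorem Entire.derivative {f : E⟦X⟧} (hf : Entire f) : Entire (d⁄dX E f) := fun R hR => by
  obtain ⟨C, hC⟩ := hf R hR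
  exact ⟨C / R, norm_coeff_derivative_le (by linarith) hC⟩

theorem FredBd.add {C D : ℝ → ℝ} {S T : ℕ → E} (hS : FredBd C S) (hT : FredBd D T) :
    FredBd (fun R => C R * D R) (fun m => S m + T m) := by
  obtain ⟨c, hc1, hc2⟩ := hS
  obtain ⟨d, hd1, hd2⟩ := hT
  rw [newton_iff_mk] at hc1 hd1
  refine ⟨fun j => coeff j (PowerSeries.mk c * PowerSeries.mk d), ?_, fun R hR j => ?_⟩
  · rw [newton_iff]
    refine ⟨?_, ?_⟩
    · have h1 := hc1.1
      have h2 := hd1.1
      simp only [coeff_zero_eq_constantCoeff] at h1 h2 ⊢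
      rw [map_mul, h1, h2, one_mul]
    · rw [Derivation.leibniz, hc1.2, hd1.2, gen_add]
      simp only [smul_eq_mul]
      ring
  · exact norm_coeff_mul_le (by linarith) (fun j => by simpa using hc2 R hR j)
      (fun j => by simpa using hd2 R hR j) j

theorem Fred.add {S T : ℕ → E} (hS : Fred S) (hT : Fred T) : Fred (fun m => S m + T m) := by
  obtain ⟨C, hS⟩ := hS
  obtain ⟨D, hT⟩ := hT
  exact ⟨_, hS.add hT⟩

omit [IsUltrametricDist E] in
theorem Fred.zero : Fred (fun _ => (0 : E)) := by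
  rw [fred_iff]
  refine ⟨1, by simp, ?_, Entire.one⟩
  have : gen (fun _ => (0 : E)) = 0 := by ext i; simp [coeff_gen]
  rw [this]; simp

theorem Fred.sum {ι : Type*} (s : Finset ι) (S : ι → ℕ → E) (hS : ∀ i ∈ s, Fred (S i)) :
    Fred (fun m => ∑ i ∈ s, S i m) := by
  classical
  induction s using Finset.induction_on with
  | empty => simpa using Fred.zero
  | insert a s ha ih =>
    simp only [Finset.sum_insert ha]
    exact (hS a (by simp)).add (ih fun i hi => hS i (by simp [hi]))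

theorem Fred.nsmul {S : ℕ → E} (hS : Fred S) (n : ℕ) : Fred (fun m => (n : E) * S m) := by
  have := Fred.sum (Finset.range n) (fun _ => S) (fun _ _ => hS)
  simpa using this

omit [IsUltrametricDist E] in
theorem FredBd.geom_mul {C : ℝ → ℝ} {S : ℕ → E} (hS : FredBd C S) (a : E) :
    FredBd (fun R => C (max 1 ‖a‖ * R)) (fun m => a ^ m * S m) := by
  obtain ⟨c, ⟨h0, h1⟩, h2⟩ := hS
  refine ⟨fun j => a ^ j * c j, ⟨by simp [h0], fun n => ?_⟩, fun R hR j => ?_⟩
  · calc ((n : E) + 1) * (a ^ (n + 1) * c (n + 1)) = a ^ (n + 1) * (((n : E) + 1) * c (n + 1)) := by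
          ring
      _ = _ := by
          rw [h1 n, mul_neg, Finset.mul_sum]
          congr 1
          refine Finset.sum_congr rfl fun i hi => ?_
          have hi' : i ≤ n := Nat.lt_succ_iff.1 (Finset.mem_range.1 hi)
          have : a ^ (n + 1) = a ^ (i + 1) * a ^ (n - i) := by
            rw [← pow_add]; congr 1; omega
          rw [this]; ring
  · have h1 : (1 : ℝ) ≤ max 1 ‖a‖ * R := one_le_mul_of_one_le_of_one_le (le_max_left _ _) hR
    refine le_trans ?_ (h2 _ h1 j)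
    rw [norm_mul, norm_pow, mul_pow]
    have : ‖a‖ ^ j ≤ (max 1 ‖a‖) ^ j := pow_le_pow_left₀ (norm_nonneg _) (le_max_right _ _) j
    have hR0 : 0 ≤ R ^ j := by positivity
    calc ‖a‖ ^ j * ‖c j‖ * R ^ j = ‖a‖ ^ j * (‖c j‖ * R ^ j) := by ring
      _ ≤ (max 1 ‖a‖) ^ j * (‖c j‖ * R ^ j) := mul_le_mul_of_nonneg_right this (by positivity)
      _ = _ := by ring

omit [IsUltrametricDist E] in
theorem Fred.geom_mul {S : ℕ → E} (hS : Fred S) (a : E) : Fred (fun m => a ^ m * S m) := by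
  obtain ⟨C, hS⟩ := hS
  exact ⟨_, hS.geom_mul a⟩

omit [IsUltrametricDist E] in
theorem gen_geom (a : E) : gen (fun m => a ^ m) * (1 - C a * X) = C a := by
  ext n
  cases n with
  | zero => simp [gen, mul_sub, ← mul_assoc]
  | succ n =>
    simp [coeff_gen, mul_sub, ← mul_assoc, coeff_succ_mul_X, pow_succ]

omit [IsUltrametricDist E] in
theorem Fred.geom (a : E) : Fred (fun m => a ^ m) := by
  rw [fred_iff]
  refine ⟨1 - C a * X, by simp, ?_, ?_⟩
  · rw [gen_geom]; simp [Derivation.leibniz]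
  · exact Entire.one.sub (by
      have := Entire.coe (Polynomial.C a * Polynomial.X)
      rwa [Polynomial.coe_mul, Polynomial.coe_C, Polynomial.coe_X] at this)

omit [IsUltrametricDist E] in
theorem Fred.mero {S : ℕ → E} (hS : Fred S) : Mero S :=
  ⟨S, fun _ => 0, hS, Fred.zero, fun _ _ => by simp⟩

omit [IsUltrametricDist E] in
theorem Mero.zero : Mero (fun _ => (0 : E)) := Fred.zero.mero

omit [IsUltrametricDist E] in
theorem Mero.geom (a : E) : Mero (fun m => a ^ m) := (Fred.geom a).mero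

omit [IsUltrametricDist E] in
theorem Mero.neg {S : ℕ → E} (hS : Mero S) : Mero (fun m => - S m) := by
  obtain ⟨S₁, S₂, h1, h2, h3⟩ := hS
  exact ⟨S₂, S₁, h2, h1, fun m hm => by simp only []; rw [h3 m hm]; ring⟩

theorem Mero.add {S T : ℕ → E} (hS : Mero S) (hT : Mero T) : Mero (fun m => S m + T m) := by
  obtain ⟨S₁, S₂, h1, h2, h3⟩ := hS
  obtain ⟨T₁, T₂, k1, k2, k3⟩ := hT
  exact ⟨_, _, h1.add k1, h2.add k2, fun m hm => by simp only []; rw [h3 m hm, k3 m hm]; ring⟩

theorem Mero.sub {S T : ℕ → E} (hS : Mero S) (hT : Mero T) : Mero (fun m => S m - T m) := by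
  simpa [sub_eq_add_neg] using hS.add hT.neg

theorem Mero.sum {ι : Type*} (s : Finset ι) (S : ι → ℕ → E) (hS : ∀ i ∈ s, Mero (S i)) :
    Mero (fun m => ∑ i ∈ s, S i m) := by
  classical
  induction s using Finset.induction_on with
  | empty => simpa using Mero.zero
  | insert a s ha ih =>
    simp only [Finset.sum_insert ha]
    exact (hS a (by simp)).add (ih fun i hi => hS i (by simp [hi]))

theorem Mero.nsmul {S : ℕ → E} (hS : Mero S) (n : ℕ) : Mero (fun m => (n : E) * S m) := by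
  have := Mero.sum (Finset.range n) (fun _ => S) (fun _ _ => hS)
  simpa using this

theorem Mero.zsmul {S : ℕ → E} (hS : Mero S) (n : ℤ) : Mero (fun m => (n : E) * S m) := by
  obtain ⟨k, rfl | rfl⟩ := Int.eq_nat_or_neg n
  · simpa using hS.nsmul k
  · simpa using (hS.nsmul k).neg

omit [IsUltrametricDist E] in
theorem Mero.geom_mul {S : ℕ → E} (hS : Mero S) (a : E) : Mero (fun m => a ^ m * S m) := by
  obtain ⟨S₁, S₂, h1, h2, h3⟩ := hS
  exact ⟨_, _, h1.geom_mul a, h2.geom_mul a, fun m hm => by simp only []; rw [h3 m hm]; ring⟩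

end ultra

section limit
variable {E : Type*} [NormedField E] [CharZero E]

theorem Newton.succ_eq {S c : ℕ → E} (h : Newton S c) (n : ℕ) :
    c (n + 1) = - ((n : E) + 1)⁻¹ * ∑ i ∈ Finset.range (n + 1), S (i + 1) * c (n - i) := by
  have hn : ((n : E) + 1) ≠ 0 := by exact_mod_cast Nat.succ_ne_zero n
  have := h.2 n
  field_simp
  linear_combination this

/-- every sequence has a Fredholm series -/
theorem exists_newton (S : ℕ → E) : ∃ c, Newton S c := by
  let c : ℕ → E := fun n => Nat.strongRecOn n (motive := fun _ => E) fun n rec =>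
    match n, rec with
    | 0, _ => 1
    | n + 1, rec => - ((n : E) + 1)⁻¹ *
        ∑ i ∈ Finset.range (n + 1), S (i + 1) * rec (n - i) (Nat.lt_succ_of_le (Nat.sub_le n i))
  have h0 : c 0 = 1 := by simp only [c]; rw [Nat.strongRecOn_eq]
  have h1 : ∀ n, c (n + 1) = - ((n : E) + 1)⁻¹ *
      ∑ i ∈ Finset.range (n + 1), S (i + 1) * c (n - i) := by
    intro n; simp only [c]; rw [Nat.strongRecOn_eq]
  refine ⟨c, h0, fun n => ?_⟩
  have hn : ((n : E) + 1) ≠ 0 := by exact_mod_cast Nat.succ_ne_zero n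
  rw [h1 n]
  field_simp

theorem Newton.tendsto {ι : Type*} {l : Filter ι} {S c : ι → ℕ → E} {S₀ c₀ : ℕ → E}
    (hS : ∀ m, 0 < m → Tendsto (fun k => S k m) l (𝓝 (S₀ m)))
    (hc : ∀ᶠ k in l, Newton (S k) (c k)) (hc₀ : Newton S₀ c₀) (n : ℕ) :
    Tendsto (fun k => c k n) l (𝓝 (c₀ n)) := by
  induction n using Nat.strong_induction_on with
  | _ n ih =>
    cases n with
    | zero =>
      rw [hc₀.1]
      exact tendsto_const_nhds.congr' (hc.mono fun k hk => hk.1.symm)
    | succ n =>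
      rw [hc₀.succ_eq n]
      refine Tendsto.congr' (hc.mono fun k hk => (hk.succ_eq n).symm) ?_
      refine Tendsto.const_mul _ (tendsto_finsetSum _ fun i _ => ?_)
      exact (hS _ (Nat.succ_pos i)).mul (ih _ (Nat.lt_succ_of_le (Nat.sub_le n i)))

/-- `FredBd C` is closed under pointwise limits. -/
theorem FredBd.of_tendsto {ι : Type*} {l : Filter ι} [l.NeBot] {C : ℝ → ℝ} {S : ι → ℕ → E}
    {S₀ : ℕ → E} (hS : ∀ m, 0 < m → Tendsto (fun k => S k m) l (𝓝 (S₀ m)))
    (hF : ∀ᶠ k in l, FredBd C (S k)) : FredBd C S₀ := by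
  classical
  obtain ⟨c₀, hc₀⟩ := exists_newton S₀
  let c : ι → ℕ → E := fun k => if h : FredBd C (S k) then h.choose else 0
  have hc : ∀ᶠ k in l, Newton (S k) (c k) ∧ ∀ R : ℝ, 1 ≤ R → ∀ j, ‖c k j‖ * R ^ j ≤ C R := by
    refine hF.mono fun k hk => ?_
    simp only [c, dif_pos hk]
    exact hk.choose_spec
  refine ⟨c₀, hc₀, fun R hR j => ?_⟩
  have ht := Newton.tendsto hS (hc.mono fun k hk => hk.1) hc₀ j
  exact le_of_tendsto (ht.norm.mul_const (R ^ j)) (hc.mono fun k hk => hk.2 R hR j)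

end limit

end Cfsg.Agent.DL.Dw
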