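import Mathlib

/-!
# Teichmüller lifts

A field `k` that is algebraic over the field with `p` elements has a multiplicative lift into every
algebraically closed ultrametric field of characteristic zero in which `p` has norm less than one;
the lift is additive modulo the maximal ideal.
-/

set_option autoImplicit false

namespace Cfsg.Agent.DL.Dw

open Polynomial

/-- a multiplicative lift that is additive modulo the maximal ideal -/
structure IsTeich {k E : Type*} [Field k] [NormedField E] (τ : k →*₀ E) : Prop where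
  norm_le : ∀ a, ‖τ a‖ ≤ 1
  add : ∀ a b, ‖τ (a + b) - τ a - τ b‖ < 1

section exist

variable {E : Type*} [NormedField E] [IsUltrametricDist E]

/-- the valuation ring -/
noncomputable abbrev Oint (E : Type*) [NormedField E] [IsUltrametricDist E] : Subring E :=
  (NormedField.valuation (K := E)).integer

theorem mem_Oint {x : E} : x ∈ Oint E ↔ ‖x‖ ≤ 1 := by
  rw [Valuation.mem_integer_iff, NormedField.valuation_apply, ← NNReal.coe_le_coe]
  rfl

theorem residue_eq_zero {x : Oint E} : IsLocalRing.residue (Oint E) x = 0 ↔ ‖(x : E)‖ < 1 := by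
  rw [IsLocalRing.residue_eq_zero_iff, IsLocalRing.mem_maximalIdeal, mem_nonunits_iff,
    (Valuation.integer.integers (NormedField.valuation (K := E))).isUnit_iff_valuation_eq_one]
  have h := mem_Oint.1 x.2
  rw [NormedField.valuation_apply, ← NNReal.coe_inj]
  exact ⟨fun h1 => lt_of_le_of_ne h h1, fun h1 => h1.ne⟩

theorem residue_isAlgClosed [IsAlgClosed E] : IsAlgClosed (IsLocalRing.ResidueField (Oint E)) := by
  refine IsAlgClosed.of_exists_root _ fun f hf hirr => ?_
  have hl : f ∈ lifts (IsLocalRing.residue (Oint E)) :=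
    mem_lifts_of_surjective IsLocalRing.residue_surjective f
  obtain ⟨g, hg, hdeg, hmon⟩ := lifts_and_degree_eq_and_monic hl hf
  have hd : (g.map (algebraMap (Oint E) E)).degree ≠ 0 := by
    rw [hmon.degree_map, hdeg]
    exact (degree_pos_of_irreducible hirr).ne'
  obtain ⟨z, hz⟩ := IsAlgClosed.exists_root _ hd
  have hzi : IsIntegral (Oint E) z := ⟨g, hmon, by rwa [← eval_map]⟩
  have hzm := (Valuation.integer.integers (NormedField.valuation (K := E))).mem_of_integral hzi
  have h0 : g.eval ⟨z, hzm⟩ = 0 := by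
    apply Subtype.val_injective
    have : algebraMap (Oint E) E (g.eval ⟨z, hzm⟩) = 0 := by
      rw [← eval₂_at_apply, ← eval_map]
      exact hz
    exact this
  refine ⟨IsLocalRing.residue (Oint E) ⟨z, hzm⟩, ?_⟩
  rw [← hg, eval_map, eval₂_at_apply, h0, map_zero]

theorem teich_unique {p : ℕ} (hpE : ‖(p : E)‖ < 1) {n : ℕ} (hn : 0 < n) {z z' : Oint E}
    (hz : z ^ (p ^ n) = z) (hz' : z' ^ (p ^ n) = z')
    (h : IsLocalRing.residue (Oint E) z = IsLocalRing.residue (Oint E) z') : z = z' := by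
  have hp0 : IsLocalRing.residue (Oint E) (p : Oint E) = 0 := residue_eq_zero.2 (by simpa using hpE)
  rw [map_natCast] at hp0
  have h1 := geom_sum₂_mul z z' (p ^ n)
  rw [hz, hz'] at h1
  set S := ∑ i ∈ Finset.range (p ^ n), z ^ i * z' ^ (p ^ n - 1 - i) with hS
  have h2 : IsLocalRing.residue (Oint E) S = 0 := by
    rw [hS, map_sum]
    simp only [map_mul, map_pow, h]
    rw [geom_sum₂_self, Nat.cast_pow, hp0, zero_pow hn.ne', zero_mul]
  have h3 : S - 1 ≠ 0 := by
    intro h4
    rw [sub_eq_zero.1 h4, map_one] at h2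
    exact one_ne_zero h2
  have h5 : (S - 1) * (z - z') = 0 := by linear_combination h1
  exact sub_eq_zero.1 ((mul_eq_zero.1 h5).resolve_left h3)

theorem pow_pow_mul {M : Type*} [Monoid M] {Q : ℕ} {x : M} (h : x ^ Q = x) (j : ℕ) :
    x ^ (Q ^ j) = x := by
  induction j with
  | zero => simp
  | succ j ih => rw [pow_succ, pow_mul, ih, h]

theorem teich_exists [IsAlgClosed E] [CharZero E] {p : ℕ} (hp : p.Prime) {n : ℕ} (hn : 0 < n)
    {x : IsLocalRing.ResidueField (Oint E)} (hx : x ^ (p ^ n) = x) :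
    ∃ z : Oint E, IsLocalRing.residue (Oint E) z = x ∧ z ^ (p ^ n) = z := by
  by_cases h0 : x = 0
  · exact ⟨0, by simp [h0], zero_pow (pow_pos hp.pos n).ne'⟩
  have h1 : 1 < p ^ n := Nat.one_lt_pow hn.ne' hp.one_lt
  obtain ⟨N, hN⟩ : ∃ N, p ^ n = N + 1 := ⟨p ^ n - 1, by omega⟩
  have hN0 : 0 < N := by omega
  have hxN : x ^ N = 1 := by
    rw [hN, pow_succ] at hx
    exact mul_right_cancel₀ h0 (by rw [hx, one_mul])
  have : NeZero (N : E) := ⟨Nat.cast_ne_zero.2 hN0.ne'⟩
  obtain ⟨ζ, hζ⟩ := HasEnoughRootsOfUnity.exists_primitiveRoot E N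
  have hζm : ζ ∈ Oint E := by
    rw [mem_Oint]
    have h := congrArg norm hζ.pow_eq_one
    rw [norm_pow, norm_one] at h
    exact ((pow_eq_one_iff_of_nonneg (norm_nonneg _) hN0.ne').1 h).le
  have hζ' : IsPrimitiveRoot (⟨ζ, hζm⟩ : Oint E) N :=
    IsPrimitiveRoot.of_map_of_injective (f := (Oint E).subtype) hζ Subtype.val_injective
  obtain ⟨a, rfl⟩ := IsLocalRing.residue_surjective x
  have h2 := congrArg (IsLocalRing.residue (Oint E)) (hζ'.pow_sub_pow_eq_prod_sub_mul a 1 hN0)
  rw [map_sub, map_pow, hxN, one_pow, map_one, sub_self, map_prod] at h2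
  obtain ⟨z, hz, hz'⟩ := Finset.prod_eq_zero_iff.1 h2.symm
  rw [mul_one, map_sub, sub_eq_zero] at hz'
  refine ⟨z, hz'.symm, ?_⟩
  rw [hN, pow_succ, (mem_nthRootsFinset hN0 1).1 hz, one_mul]

theorem exists_teich [IsAlgClosed E] [CharZero E] {p : ℕ} (hp : p.Prime) (hpE : ‖(p : E)‖ < 1)
    {k : Type*} [Field k] [CharP k p] (hk : ∀ x : k, ∃ n, 0 < n ∧ x ^ (p ^ n) = x) :
    ∃ τ : k →*₀ E, IsTeich τ := by
  have := Fact.mk hp
  have hp0 : IsLocalRing.residue (Oint E) (p : Oint E) = 0 := residue_eq_zero.2 (by simpa using hpE)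
  rw [map_natCast] at hp0
  have : CharP (IsLocalRing.ResidueField (Oint E)) p := (CharP.charP_iff_prime_eq_zero hp).2 hp0
  have := residue_isAlgClosed (E := E)
  let _ : Algebra (ZMod p) k := ZMod.algebra k p
  let _ : Algebra (ZMod p) (IsLocalRing.ResidueField (Oint E)) := ZMod.algebra _ p
  have : Algebra.IsAlgebraic (ZMod p) k := ⟨fun x => by
    obtain ⟨n, hn, hx⟩ := hk x
    refine ⟨X ^ (p ^ n) - X, ?_, by simp [hx]⟩
    exact FiniteField.X_pow_card_sub_X_ne_zero _ (Nat.one_lt_pow hn.ne' hp.one_lt)⟩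
  let ι : k →ₐ[ZMod p] IsLocalRing.ResidueField (Oint E) := IsAlgClosed.lift
  have hex : ∀ x : k, ∃ z : Oint E, IsLocalRing.residue (Oint E) z = ι x ∧
      ∃ n, 0 < n ∧ z ^ (p ^ n) = z := fun x => by
    obtain ⟨n, hn, hx⟩ := hk x
    obtain ⟨z, hz, hz'⟩ := teich_exists hp hn (x := ι x) (by rw [← map_pow, hx])
    exact ⟨z, hz, n, hn, hz'⟩
  choose t ht hn using hex
  have huniq : ∀ (x : k) (z : Oint E), IsLocalRing.residue (Oint E) z = ι x →
      (∃ n, 0 < n ∧ z ^ (p ^ n) = z) → t x = z := by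
    intro x z hz ⟨n, hn0, hzn⟩
    obtain ⟨m, hm0, hm⟩ := hn x
    refine teich_unique hpE (n := m * n) (by positivity) ?_ ?_ ((ht x).trans hz.symm)
    · rw [pow_mul]; exact pow_pow_mul hm n
    · rw [mul_comm, pow_mul]; exact pow_pow_mul hzn m
  refine ⟨⟨⟨fun x => (t x : E), ?_⟩, ?_, ?_⟩, fun a => mem_Oint.1 (t a).2, fun a b => ?_⟩
  · have : t 0 = 0 := huniq 0 0 (by simp) ⟨1, one_pos, by simp [hp.ne_zero]⟩
    simp [this]
  · have : t 1 = 1 := huniq 1 1 (by simp) ⟨1, one_pos, by simp⟩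
    simp [this]
  · intro a b
    have : t (a * b) = t a * t b := by
      obtain ⟨m, hm0, hm⟩ := hn a
      obtain ⟨n, hn0, hn⟩ := hn b
      refine huniq _ _ (by rw [map_mul, map_mul, ht, ht]) ⟨m * n, by positivity, ?_⟩
      rw [mul_pow]
      congr 1
      · rw [pow_mul]; exact pow_pow_mul hm n
      · rw [mul_comm, pow_mul]; exact pow_pow_mul hn m
    simp [this]
  · have : IsLocalRing.residue (Oint E) (t (a + b) - t a - t b) = 0 := by
      rw [map_sub, map_sub, ht, ht, ht, map_add]; ring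
    exact residue_eq_zero.1 this

end exist

namespace IsTeich

variable {k E : Type*} [Field k] [NormedField E] {τ : k →*₀ E}

theorem norm_eq (h : IsTeich τ) {a : k} (ha : a ≠ 0) : ‖τ a‖ = 1 := by
  have h1 : ‖τ a‖ * ‖τ a⁻¹‖ = 1 := by rw [← norm_mul, ← map_mul, mul_inv_cancel₀ ha, map_one, norm_one]
  have h2 := h.norm_le a
  have h3 := h.norm_le a⁻¹
  nlinarith [norm_nonneg (τ a), norm_nonneg (τ a⁻¹)]

theorem injective (h : IsTeich τ) : Function.Injective τ := by
  intro a b hab
  by_contra hne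
  have h1 := h.add (a - b) b
  rw [sub_add_cancel, hab, sub_right_comm, sub_self, zero_sub, norm_neg,
    h.norm_eq (sub_ne_zero.2 hne)] at h1
  exact lt_irrefl _ h1

end IsTeich

/-- `a` reduces to `b` -/
def Red {k E : Type*} [Field k] [NormedField E] (τ : k →*₀ E) (a : E) (b : k) : Prop :=
  ‖a - τ b‖ < 1

namespace Red

variable {k E : Type*} [Field k] [NormedField E] [IsUltrametricDist E] {τ : k →*₀ E}

theorem norm_add_lt {a b : E} {c : ℝ} (ha : ‖a‖ < c) (hb : ‖b‖ < c) : ‖a + b‖ < c :=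
  (IsUltrametricDist.norm_add_le_max a b).trans_lt (max_lt ha hb)

omit [IsUltrametricDist E] in
theorem self (b : k) : Red τ (τ b) b := by simp [Red]

theorem norm_le (h : IsTeich τ) {a : E} {b : k} (hab : Red τ a b) : ‖a‖ ≤ 1 := by
  have := IsUltrametricDist.norm_add_le_max (a - τ b) (τ b)
  rw [sub_add_cancel] at this
  exact this.trans (max_le (le_of_lt hab) (h.norm_le b))

theorem add (h : IsTeich τ) {a a' : E} {b b' : k} (h1 : Red τ a b) (h2 : Red τ a' b') :
    Red τ (a + a') (b + b') := by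
  have h3 := h.add b b'
  rw [← norm_neg] at h3
  have := norm_add_lt (norm_add_lt h1 h2) h3
  unfold Red
  convert this using 2
  ring

theorem mul (h : IsTeich τ) {a a' : E} {b b' : k} (h1 : Red τ a b) (h2 : Red τ a' b') :
    Red τ (a * a') (b * b') := by
  have h3 : ‖(a - τ b) * a'‖ < 1 := by
    rw [norm_mul]
    exact mul_lt_one_of_nonneg_of_lt_one_left (norm_nonneg _) h1 (h2.norm_le h)
  have h4 : ‖(a' - τ b') * τ b‖ < 1 := by
    rw [norm_mul]
    exact mul_lt_one_of_nonneg_of_lt_one_left (norm_nonneg _) h2 (h.norm_le b)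
  have := norm_add_lt h3 h4
  unfold Red
  convert this using 2
  rw [map_mul]
  ring

theorem pow (h : IsTeich τ) {a : E} {b : k} (h1 : Red τ a b) (n : ℕ) : Red τ (a ^ n) (b ^ n) := by
  induction n with
  | zero => simpa using self (τ := τ) 1
  | succ n ih => rw [pow_succ, pow_succ]; exact ih.mul h h1

theorem sum (h : IsTeich τ) {ι : Type*} {s : Finset ι} {a : ι → E} {b : ι → k}
    (h1 : ∀ i ∈ s, Red τ (a i) (b i)) : Red τ (∑ i ∈ s, a i) (∑ i ∈ s, b i) := by
  classical
  induction s using Finset.induction_on with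
  | empty => simpa using self (τ := τ) 0
  | insert j s hj ih =>
    rw [Finset.sum_insert hj, Finset.sum_insert hj]
    exact (h1 j (Finset.mem_insert_self _ _)).add h
      (ih fun i hi => h1 i (Finset.mem_insert_of_mem hi))

theorem natCast (h : IsTeich τ) (n : ℕ) : Red τ (n : E) (n : k) := by
  induction n with
  | zero => simpa using self (τ := τ) 0
  | succ n ih =>
    rw [Nat.cast_succ, Nat.cast_succ]
    exact ih.add h (by simpa using self (τ := τ) 1)

theorem sub_lt {a a' : E} {b : k} (h1 : Red τ a b) (h2 : Red τ a' b) : ‖a - a'‖ < 1 := by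
  have h3 : ‖-(a' - τ b)‖ < 1 := by rwa [norm_neg]
  have := norm_add_lt h1 h3
  convert this using 2
  ring

end Red

end Cfsg.Agent.DL.Dw
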