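import Cfsg.Agent.DL.Dw.Ch
import Cfsg.Agent.DL.Dw.Final
import Cfsg.Agent.DL.Iface

/-!
# Equivariant Dwork rationality from the averaged operator
-/

set_option autoImplicit false
set_option linter.unusedSectionVars false

namespace Cfsg.Agent.DL.Dw

open MvPolynomial Filter Topology

section count

variable {k : Type*} [Field k] {I J : Type*} [Fintype I] [Fintype J] [DecidableEq I] [DecidableEq J]

/-- the polynomial `∑ y_j f_j` -/
noncomputable def bigF (f : J → MvPolynomial I k) : MvPolynomial (I ⊕ J) k :=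
  ∑ j, X (Sum.inr j) * rename Sum.inl (f j)

theorem eval_bigF (f : J → MvPolynomial I k) (x : I → k) (y : J → k) :
    eval (Sum.elim x y) (bigF f) = ∑ j, y j * eval x (f j) := by
  simp only [bigF, map_sum, map_mul, eval_X, eval_rename, Sum.elim_inr, Sum.elim_comp_inl]

theorem bigF_frob {p : ℕ} (hp : p.Prime) [CharP k p] {s : ℕ} {f : J → MvPolynomial I k}
    (hf : ∀ j u, coeff u (f j) ^ p ^ s = coeff u (f j)) (u : I ⊕ J →₀ ℕ) :
    coeff u (bigF f) ^ p ^ s = coeff u (bigF f) := by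
  have := Fact.mk hp
  have h1 : ∀ j, map (iterateFrobenius k p s) (f j) = f j := fun j => by
    ext v
    rw [coeff_map, iterateFrobenius_def, hf]
  have h2 : map (iterateFrobenius k p s) (bigF f) = bigF f := by
    simp only [bigF, map_sum, map_mul, map_X, map_rename, h1]
  conv_rhs => rw [← h2, coeff_map, iterateFrobenius_def]

theorem rename_bigF {f : J → MvPolynomial I k} {σ : Equiv.Perm I} {σ' : Equiv.Perm J}
    (h : ∀ j, rename σ (f j) = f (σ' j)) : rename (σ.sumCongr σ') (bigF f) = bigF f := by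
  simp only [bigF, map_sum, map_mul, rename_X, rename_rename]
  refine Fintype.sum_equiv σ' _ _ fun j => ?_
  rw [← h, rename_rename]
  rfl

theorem sum_fixF_sum {M : Type*} [AddCommMonoid M] {Q : ℕ} (hQ : 1 < Q) (σ : Equiv.Perm I)
    (σ' : Equiv.Perm J) (ω : (I ⊕ J → k) → M) :
    ∑ w ∈ fixF k Q (σ.sumCongr σ'), ω w =
      ∑ x ∈ fixF k Q σ, ∑ y ∈ fixF k Q σ', ω (Sum.elim x y) := by
  rw [← Finset.sum_product']
  refine Finset.sum_nbij' (fun w => (w ∘ Sum.inl, w ∘ Sum.inr)) (fun z => Sum.elim z.1 z.2)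
    (fun w hw => ?_) (fun z hz => ?_) (fun w _ => ?_) (fun z _ => ?_) (fun w _ => ?_)
  · rw [mem_fixF hQ] at hw
    exact Finset.mem_product.2 ⟨(mem_fixF hQ).2 fun i => hw (Sum.inl i),
      (mem_fixF hQ).2 fun j => hw (Sum.inr j)⟩
  · obtain ⟨h1, h2⟩ := Finset.mem_product.1 hz
    rw [mem_fixF hQ] at h1 h2 ⊢
    rintro (i | j)
    · exact h1 i
    · exact h2 j
  · exact Sum.elim_comp_inl_inr w
  · rfl
  · simp only [Sum.elim_comp_inl_inr]

variable [IsAlgClosed k] {p : ℕ} [CharP k p]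

theorem exists_fix_tr_ne (hp : p.Prime) {e : ℕ} (he : 0 < e) {σ' : Equiv.Perm J} {c : J → k}
    (hc : ∀ j, c j ^ p ^ e = c (σ' j)) {j₀ : J} (h0 : c j₀ ≠ 0) :
    ∃ y ∈ fixF k (p ^ e) σ', tr p e (∑ j, y j * c j) ≠ 0 := by
  have hQ : 1 < p ^ e := Nat.one_lt_pow he.ne' hp.one_lt
  have hn : 0 < orderOf σ' := orderOf_pos σ'
  obtain ⟨z, hz, hne⟩ := exists_tr_ne hp (Nat.mul_pos he hn) h0
  refine ⟨orbVec (p ^ e) σ' j₀ (orderOf σ') z, (mem_fixF hQ).2
    (orbVec_fix hp (iterate_orderOf σ' j₀) (by rwa [← pow_mul])), ?_⟩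
  have h1 : ∑ j, orbVec (p ^ e) σ' j₀ (orderOf σ') z j * c j =
      ∑ a ∈ Finset.range (orderOf σ'), (z * c j₀) ^ (p ^ e) ^ a := by
    simp only [orbVec, Finset.sum_mul]
    rw [Finset.sum_comm]
    refine Finset.sum_congr rfl fun a _ => ?_
    simp only [ite_mul, zero_mul]
    rw [Finset.sum_ite_eq, if_pos (Finset.mem_univ _), mul_pow, Fix.iter (x := c) hc]
  rw [h1, tr_sum hp, ← tr_mul]
  exact hne

variable {E : Type*} [NormedField E] [IsUltrametricDist E] {τ : k →*₀ E} {ζ : E}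

theorem sum_ch_lin (h : IsTeich τ) (hp : p.Prime) (hζ : IsPrimitiveRoot ζ p) (hpE : ‖(p : E)‖ < 1)
    {e : ℕ} (he : 0 < e) {σ' : Equiv.Perm J} {c : J → k} (hc : ∀ j, c j ^ p ^ e = c (σ' j))
    {ω : (J → k) → E} (hω : ∀ y ∈ fixF k (p ^ e) σ', Ch τ p ζ (ω y) (-tr p e (∑ j, y j * c j)))
    [Decidable (∀ j, c j = 0)] :
    ∑ y ∈ fixF k (p ^ e) σ', ω y =
      if ∀ j, c j = 0 then (((p ^ e) ^ Fintype.card J : ℕ) : E) else 0 := by
  have := Fact.mk hp
  have hQ : 1 < p ^ e := Nat.one_lt_pow he.ne' hp.one_lt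
  split_ifs with h0
  · rw [← card_fixF (k := k) (σ := σ') hp he, Finset.card_eq_sum_ones, Nat.cast_sum]
    refine Finset.sum_congr rfl fun y hy => ?_
    have h1 := hω y hy
    simp only [h0, mul_zero, Finset.sum_const_zero, tr_zero hp, neg_zero] at h1
    rw [h1.unique_left h hp hζ hpE Ch.one, Nat.cast_one]
  · push Not at h0
    obtain ⟨j₀, h0⟩ := h0
    obtain ⟨y₀, hy₀, hne⟩ := exists_fix_tr_ne hp he hc h0
    have hadd : ∀ y ∈ fixF k (p ^ e) σ', y + y₀ ∈ fixF k (p ^ e) σ' := fun y hy => by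
      rw [mem_fixF hQ] at hy hy₀ ⊢
      intro j
      simp only [Pi.add_apply, add_pow_char_pow, hy, hy₀]
    have hsub : ∀ y ∈ fixF k (p ^ e) σ', y - y₀ ∈ fixF k (p ^ e) σ' := fun y hy => by
      rw [mem_fixF hQ] at hy hy₀ ⊢
      intro j
      simp only [Pi.sub_apply, sub_pow_char_pow, hy, hy₀]
    have h1 : ∑ y ∈ fixF k (p ^ e) σ', ω y * ω y₀ = ∑ y ∈ fixF k (p ^ e) σ', ω y := by
      refine Finset.sum_nbij' (· + y₀) (· - y₀) hadd hsub (fun y _ => add_sub_cancel_right _ _)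
        (fun y _ => sub_add_cancel _ _) fun y hy => ?_
      refine ((hω y hy).mul h hp hζ hpE (hω y₀ hy₀)).unique_left h hp hζ hpE ?_
      have h2 := hω _ (hadd y hy)
      simp only [Pi.add_apply, add_mul, Finset.sum_add_distrib, tr_add hp, neg_add] at h2
      exact h2
    have h2 : ω y₀ ≠ 1 := fun h3 => by
      have h4 := hω y₀ hy₀
      rw [h3] at h4
      exact hne (neg_eq_zero.1 (h4.unique_right h Ch.one))
    rw [← Finset.sum_mul] at h1
    by_contra h5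
    exact h2 (mul_left_cancel₀ h5 (h1.trans (mul_one _).symm))

theorem sum_ch (h : IsTeich τ) (hp : p.Prime) (hζ : IsPrimitiveRoot ζ p) (hpE : ‖(p : E)‖ < 1)
    {s m : ℕ} (hs : 0 < s) (hm : 0 < m) {f : J → MvPolynomial I k}
    (hf : ∀ j u, coeff u (f j) ^ p ^ s = coeff u (f j)) {σ : Equiv.Perm I} {σ' : Equiv.Perm J}
    (hσ : ∀ j, rename σ (f j) = f (σ' j)) {ω : (I ⊕ J → k) → E}
    (hω : ∀ w ∈ fixF k (p ^ (s * m)) (σ.sumCongr σ'),
      Ch τ p ζ (ω w) (-tr p (s * m) (eval w (bigF f)))) :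
    ∑ w ∈ fixF k (p ^ (s * m)) (σ.sumCongr σ'), ω w = ((p : E) ^ (s * Fintype.card J)) ^ m *
      (Nat.card {x : I → k // (∀ j, eval x (f j) = 0) ∧ ∀ i, x i ^ p ^ (s * m) = x (σ i)} : ℕ) := by
  classical
  have he : 0 < s * m := Nat.mul_pos hs hm
  have hQ : 1 < p ^ (s * m) := Nat.one_lt_pow he.ne' hp.one_lt
  rw [sum_fixF_sum hQ, Nat.subtype_card ((fixF k (p ^ (s * m)) σ).filter fun x => ∀ j, eval x (f j) = 0)
    (fun x => by rw [Finset.mem_filter, mem_fixF hQ, and_comm]), Finset.card_filter, Nat.cast_sum,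
    Finset.mul_sum]
  refine Finset.sum_congr rfl fun x hx => ?_
  rw [sum_ch_lin (c := fun j => eval x (f j)) h hp hζ hpE he (σ' := σ') (fun j => ?_) fun y hy => ?_]
  · split_ifs
    · push_cast
      rw [mul_one, ← pow_mul, ← pow_mul, mul_right_comm]
    · simp
  · rw [pow_mul, ← eval_frob hp (hf j), ← hσ, eval_rename]
    congr 2
    funext i
    rw [← pow_mul]
    exact (mem_fixF hQ).1 hx i
  · rw [← eval_bigF]
    refine hω _ ((mem_fixF hQ).2 ?_)
    rintro (i | j)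
    · exact (mem_fixF hQ).1 hx i
    · exact (mem_fixF hQ).1 hy j

end count

theorem fourier_inv {C E : Type*} [CommGroup C] [Fintype C] [Field E] [IsAlgClosed E] [CharZero E]
    [Fintype (C →* Eˣ)] (a : C → E) (c₀ : C) :
    ∑ χ : C →* Eˣ, ((χ c₀⁻¹ : Eˣ) : E) * ((Fintype.card C : E)⁻¹ * ∑ c, ((χ c : Eˣ) : E) * a c) =
      a c₀ := by
  classical
  have : NeZero ((Monoid.exponent C : ℕ) : E) := ⟨Nat.cast_ne_zero.2 Monoid.exponent_ne_zero_of_finite⟩
  have h1 : ∀ c : C, ∑ χ : C →* Eˣ, ((χ c : Eˣ) : E) = if c = 1 then (Fintype.card C : E) else 0 := by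
    intro c
    split_ifs with hc
    · simp only [hc, map_one, Units.val_one, Finset.sum_const, Finset.card_univ, nsmul_eq_mul, mul_one]
      rw [← Nat.card_eq_fintype_card, CommGroup.card_monoidHom_of_hasEnoughRootsOfUnity,
        Nat.card_eq_fintype_card]
    · obtain ⟨φ, hφ⟩ := CommGroup.exists_apply_ne_one_of_hasEnoughRootsOfUnity C E hc
      let ev : (C →* Eˣ) →* E :=
        { toFun := fun χ => ((χ c : Eˣ) : E), map_one' := by simp, map_mul' := by simp }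
      refine sum_hom_units_eq_zero ev fun h => hφ (Units.ext ?_)
      exact DFunLike.congr_fun h φ
  have h2 : ∀ χ : C →* Eˣ, ((χ c₀⁻¹ : Eˣ) : E) * ((Fintype.card C : E)⁻¹ * ∑ c, ((χ c : Eˣ) : E) * a c) =
      ∑ c, (Fintype.card C : E)⁻¹ * a c * ((χ (c₀⁻¹ * c) : Eˣ) : E) := fun χ => by
    simp only [Finset.mul_sum, map_mul, Units.val_mul]
    exact Finset.sum_congr rfl fun c _ => by ring
  simp only [h2]
  rw [Finset.sum_comm]
  simp only [← Finset.mul_sum, h1, inv_mul_eq_one, mul_ite, mul_zero]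
  rw [Finset.sum_ite_eq, if_pos (Finset.mem_univ _)]
  have h3 : (Fintype.card C : E) ≠ 0 := Nat.cast_ne_zero.2 Fintype.card_ne_zero
  field_simp

section main

variable {p : ℕ} [Fact p.Prime] {k : Type} [Field k] [IsAlgClosed k] [CharP k p]

theorem mero_count (hA : Box.Avg) (hk : ∀ a : k, ∃ m, 0 < m ∧ a ^ p ^ m = a) {s : ℕ} (hs : 0 < s)
    {K I J : Type} [Group K] [Fintype K] [Fintype I] [Fintype J] [MulAction K I] [MulAction K J]
    {f : J → MvPolynomial I k} (hf : ∀ j u, (f j).coeff u ^ p ^ s = (f j).coeff u)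
    (hK : ∀ (κ : K) j, rename (fun i => κ • i) (f j) = f (κ • j)) (μ : K →* ℂ_[p]) :
    Mero fun m => (Fintype.card K : ℂ_[p])⁻¹ * ∑ κ : K, μ κ *
      (Nat.card {x : I → k // (∀ j, eval x (f j) = 0) ∧ ∀ i, x i ^ p ^ (s * m) = x (κ • i)} : ℕ) := by
  classical
  have hp : p.Prime := Fact.out
  have hpE : ‖(p : ℂ_[p])‖ < 1 := by
    rw [← map_natCast (algebraMap ℚ_[p] ℂ_[p]), norm_algebraMap']
    exact Padic.norm_p_lt_one
  have hp0 : (p : ℂ_[p]) ≠ 0 := Nat.cast_ne_zero.2 hp.ne_zero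
  obtain ⟨τ, hτ⟩ := exists_teich (E := ℂ_[p]) hp hpE hk
  have : NeZero (p : ℂ_[p]) := ⟨hp0⟩
  obtain ⟨ζ, hζ⟩ := HasEnoughRootsOfUnity.exists_primitiveRoot ℂ_[p] p
  obtain ⟨ρ, δ, G, hρ, hδ0, hδ, hb, hc, hinv, hlim⟩ := exists_splitting hτ hp hζ hpE (bigF_frob hp hf)
  let π : K →* Equiv.Perm (I ⊕ J) := (Equiv.Perm.sumCongrHom I J).comp
    ((MulAction.toPermHom K I).prod (MulAction.toPermHom K J))
  have hπ : ∀ κ, π κ = (MulAction.toPerm κ : Equiv.Perm I).sumCongr (MulAction.toPerm κ) := fun _ => rfl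
  have hK' : ∀ (κ : K) j, rename (MulAction.toPerm κ : Equiv.Perm I) (f j) =
      f ((MulAction.toPerm κ : Equiv.Perm J) j) := hK
  have hF : ∀ κ, rename (π κ) (bigF f) = bigF f := fun κ => rename_bigF (hK' κ)
  have h1 := hA p k τ hτ s hs K (I ⊕ J) π μ ρ δ hρ hδ0 hδ G hb hc (fun κ => hinv _ (hF κ))
    (fun m κ => ((p : ℂ_[p]) ^ (s * Fintype.card J)) ^ m *
      (Nat.card {x : I → k // (∀ j, eval x (f j) = 0) ∧ ∀ i, x i ^ p ^ (s * m) = x (κ • i)} : ℕ))
    fun m hm κ => by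
      have hQ : 1 < p ^ (s * m) := Nat.one_lt_pow (Nat.mul_pos hs hm).ne' hp.one_lt
      choose! ω hω using fun x => hlim m (π κ) x (hF κ)
      have h2 := sum_ch hτ hp hζ hpE hs hm hf (hK' κ) (ω := ω)
        fun w hw => (hω w ((mem_fixF hQ).1 hw)).1
      have h3 := tendsto_finsetSum (fixF k (p ^ (s * m)) (π κ))
        fun w hw => (hω w ((mem_fixF hQ).1 hw)).2
      rw [hπ] at h3 ⊢
      rw [h2] at h3
      exact h3
  refine (h1.geom_mul ((p : ℂ_[p]) ^ (s * Fintype.card J))⁻¹).congr fun m _ => ?_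
  have h4 : ((p : ℂ_[p]) ^ (s * Fintype.card J)) ^ m ≠ 0 := pow_ne_zero _ (pow_ne_zero _ hp0)
  rw [mul_left_comm, Finset.mul_sum]
  congr 1
  refine Finset.sum_congr rfl fun κ _ => ?_
  rw [inv_pow]
  field_simp

end main

theorem dwork_of_avg (hA : Box.Avg) : Box.Dwork := by
  intro p _ k _ _ _ hk s hs K I J _ _ _ _ _ _ f hf hK χ
  classical
  have hp : p.Prime := Fact.out
  obtain ⟨φ⟩ := nonempty_padicComplex_equiv p
  let N : K → ℕ → ℕ := fun κ m =>
    Nat.card {x : I → k // (∀ j, eval x (f j) = 0) ∧ ∀ i, x i ^ p ^ (s * m) = x (κ • i)}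
  have hbd : ∀ κ m, 0 < m → |(((N κ m : ℕ) : ℤ) : ℝ)| ≤ 1 * ((p : ℝ) ^ (s * Fintype.card I)) ^ m := by
    intro κ m hm
    have he : 0 < s * m := Nat.mul_pos hs hm
    have hQ : 1 < p ^ (s * m) := Nat.one_lt_pow he.ne' hp.one_lt
    have h1 : N κ m ≤ (p ^ (s * m)) ^ Fintype.card I := by
      rw [← card_fixF (k := k) (σ := MulAction.toPerm κ) hp he]
      simp only [N]
      rw [Nat.subtype_card ((fixF k (p ^ (s * m)) (MulAction.toPerm κ)).filter
        fun x => ∀ j, eval x (f j) = 0) (fun x => by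
          rw [Finset.mem_filter, mem_fixF hQ, and_comm]
          rfl)]
      exact Finset.card_filter_le _ _
    rw [Int.cast_natCast, Nat.abs_cast, one_mul, ← pow_mul, mul_right_comm, pow_mul]
    exact_mod_cast h1
  have hq : ∀ κ, Quot fun m => (((N κ m : ℕ) : ℤ) : ℂ_[p]) := by
    intro κ
    let C := Subgroup.zpowers κ
    let _ : CommGroup C := { (inferInstance : Group C) with
      mul_comm := fun a b => Subtype.ext (by
        obtain ⟨a, i, rfl⟩ := a
        obtain ⟨b, j, rfl⟩ := b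
        exact ((Commute.refl κ).zpow_zpow i j).eq) }
    have : NeZero ((Monoid.exponent C : ℕ) : ℂ_[p]) :=
      ⟨Nat.cast_ne_zero.2 Monoid.exponent_ne_zero_of_finite⟩
    have : Finite (C →* ℂ_[p]ˣ) :=
      Finite.of_equiv _ (CommGroup.monoidHom_mulEquiv_of_hasEnoughRootsOfUnity C ℂ_[p]).some.symm.toEquiv
    let _ : Fintype (C →* ℂ_[p]ˣ) := Fintype.ofFinite _
    refine Quot.of_lincomb Finset.univ
      (fun ψ : C →* ℂ_[p]ˣ => ((ψ (⟨κ, Subgroup.mem_zpowers κ⟩ : C)⁻¹ : ℂ_[p]ˣ) : ℂ_[p])) _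
      (fun ψ _ => mero_count (K := C) hA hk hs hf (fun c j => hK c j) ((Units.coeHom _).comp ψ))
      fun m _ => ?_
    rw [Int.cast_natCast]
    exact (fourier_inv (fun c : C => ((N c m : ℕ) : ℂ_[p])) ⟨κ, Subgroup.mem_zpowers κ⟩).symm
  have hS := mero_count hA hk hs hf hK (φ.symm.toMonoidHom.comp ((Units.coeHom ℂ).comp χ))
  obtain ⟨ν, h0, h1, h2⟩ := dwork_complex p φ (fun κ m => ((N κ m : ℕ) : ℤ)) 1 _ hbd hq
    (fun κ => (Nat.card K : ℂ)⁻¹ * (χ κ : ℂ)) (hS.congr fun m _ => by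
      rw [Finset.mul_sum]
      refine Finset.sum_congr rfl fun κ _ => ?_
      rw [map_mul, map_inv₀, map_natCast, Nat.card_eq_fintype_card (α := K), Int.cast_natCast, mul_assoc]
      rfl)
  refine Lef.expZ_of_finsupp ⟨ν, h0, h1, fun m hm => ?_⟩
  rw [← h2 m hm, Finset.mul_sum]
  refine Finset.sum_congr rfl fun κ _ => ?_
  rw [Int.cast_natCast, mul_assoc]

end Cfsg.Agent.DL.Dw
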