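import Mathlib

/-!
# Points fixed by a twisted Frobenius map

For a permutation `σ` of a finite set `I` and a power `Q` of the characteristic we count the points
`x : I → k` with `x i ^ Q = x (σ i)` and sum monomials over them.
-/

set_option autoImplicit false

namespace Cfsg.Agent.DL.Dw

open Polynomial

variable {k : Type*} [Field k] {I : Type*} [Fintype I] [DecidableEq I] {Q : ℕ} {σ : Equiv.Perm I}

/-- the points fixed by the twisted Frobenius map -/
def Fix (k : Type*) [Field k] (Q : ℕ) (σ : Equiv.Perm I) : Set (I → k) :=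
  {x | ∀ i, x i ^ Q = x (σ i)}

omit [Fintype I] [DecidableEq I] in
theorem Fix.iter {x : I → k} (hx : x ∈ Fix k Q σ) (j : ℕ) (i : I) :
    x i ^ (Q ^ j) = x (σ^[j] i) := by
  induction j with
  | zero => simp
  | succ j ih => rw [pow_succ, pow_mul, ih, hx, Function.iterate_succ_apply']

theorem finite_roots (hQ : 1 < Q) : {z : k | z ^ Q = z}.Finite := by
  classical
  refine (((X ^ Q - X : k[X]).roots.toFinset).finite_toSet).subset fun z hz => ?_
  simp only [Finset.mem_coe, Multiset.mem_toFinset]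
  rw [mem_roots (FiniteField.X_pow_card_sub_X_ne_zero _ hQ)]
  simpa [sub_eq_zero] using hz

omit [Fintype I] [DecidableEq I] in
theorem iterate_orderOf (σ : Equiv.Perm I) (i : I) : σ^[orderOf σ] i = i := by
  rw [← Equiv.Perm.coe_pow, pow_orderOf_eq_one]; rfl

omit [DecidableEq I] in
theorem finite_Fix (hQ : 1 < Q) : (Fix k Q σ).Finite := by
  have h1 : 1 < Q ^ orderOf σ := Nat.one_lt_pow (orderOf_pos σ).ne' hQ
  refine (Set.Finite.pi' fun _ : I => finite_roots (k := k) h1).subset fun x hx i => ?_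
  have := Fix.iter hx (orderOf σ) i
  rwa [iterate_orderOf] at this

open Classical in
/-- the fixed points as a finite set -/
noncomputable def fixF (k : Type*) [Field k] (Q : ℕ) (σ : Equiv.Perm I) : Finset (I → k) :=
  if h : (Fix k Q σ).Finite then h.toFinset else ∅

theorem mem_fixF (hQ : 1 < Q) {x : I → k} : x ∈ fixF k Q σ ↔ ∀ i, x i ^ Q = x (σ i) := by
  rw [fixF, dif_pos (finite_Fix hQ), Set.Finite.mem_toFinset]
  rfl

open Classical in
/-- the subfield with `Q` elements as a finite set -/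
noncomputable def rootF (k : Type*) [Field k] (Q : ℕ) : Finset k :=
  (X ^ Q - X : k[X]).roots.toFinset

theorem mem_rootF (hQ : 1 < Q) {z : k} : z ∈ rootF k Q ↔ z ^ Q = z := by
  classical
  rw [rootF, Multiset.mem_toFinset, mem_roots (FiniteField.X_pow_card_sub_X_ne_zero _ hQ)]
  simp [sub_eq_zero]

theorem card_rootF [IsAlgClosed k] {p e : ℕ} (hp : p.Prime) [CharP k p] (he : 0 < e) :
    (rootF k (p ^ e)).card = p ^ e := by
  classical
  have := Fact.mk hp
  have hsep : (X ^ p ^ e - X : k[X]).Separable :=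
    galois_poly_separable p (p ^ e) (dvd_pow_self p he.ne')
  rw [rootF]
  convert_to (X ^ p ^ e - X : k[X]).roots.toFinset.card = _
  rw [Multiset.toFinset_card_of_nodup (nodup_roots hsep),
    ← (IsAlgClosed.splits _).natDegree_eq_card_roots,
    FiniteField.X_pow_card_sub_X_natDegree_eq _ (Nat.one_lt_pow he.ne' hp.one_lt)]

/-- the vector supported on an orbit -/
noncomputable def orbVec (Q : ℕ) (σ : Equiv.Perm I) (i₀ : I) (n : ℕ) (z : k) : I → k :=
  fun i => ∑ j ∈ Finset.range n, if σ^[j] i₀ = i then z ^ (Q ^ j) else 0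

omit [Fintype I] in
theorem orbVec_fix {p e : ℕ} (hp : p.Prime) [CharP k p] {i₀ : I} {n : ℕ} (hn : σ^[n] i₀ = i₀)
    {z : k} (hz : z ^ ((p ^ e) ^ n) = z) (i : I) :
    orbVec (p ^ e) σ i₀ n z i ^ (p ^ e) = orbVec (p ^ e) σ i₀ n z (σ i) := by
  have := Fact.mk hp
  let b : ℕ → k := fun j => if σ^[j] i₀ = σ i then z ^ ((p ^ e) ^ j) else 0
  have h1 : orbVec (p ^ e) σ i₀ n z i ^ (p ^ e) = ∑ j ∈ Finset.range n, b (j + 1) := by
    rw [orbVec, sum_pow_char_pow]
    refine Finset.sum_congr rfl fun j _ => ?_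
    simp only [b, Function.iterate_succ_apply', σ.injective.eq_iff]
    split_ifs
    · rw [← pow_mul, ← pow_succ]
    · exact zero_pow (pow_pos hp.pos e).ne'
  have h2 := Finset.sum_range_succ' b n
  rw [Finset.sum_range_succ] at h2
  have h3 : b n = b 0 := by simp only [b, hn, hz, Function.iterate_zero, id, pow_zero, pow_one]
  rw [h3, add_left_inj] at h2
  rw [h1, ← h2]
  rfl

theorem card_fix_on [IsAlgClosed k] {p e : ℕ} (hp : p.Prime) [CharP k p] (he : 0 < e)
    [DecidableEq k] (T : Finset I) (hT : ∀ i ∈ T, σ i ∈ T) :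
    ((fixF k (p ^ e) σ).filter fun x => ∀ i ∉ T, x i = 0).card = (p ^ e) ^ T.card := by
  have := Fact.mk hp
  have hQ : 1 < p ^ e := Nat.one_lt_pow he.ne' hp.one_lt
  induction h : T.card using Nat.strong_induction_on generalizing T with
  | _ m ih =>
  rcases T.eq_empty_or_nonempty with rfl | ⟨i₀, hi₀⟩
  · rw [← h, Finset.card_empty, pow_zero, Finset.card_eq_one]
    refine ⟨0, Finset.eq_singleton_iff_unique_mem.2 ⟨?_, fun x hx => ?_⟩⟩
    · simp [mem_fixF hQ, hp.ne_zero]
    · exact funext fun i => (Finset.mem_filter.1 hx).2 i (Finset.notMem_empty i)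
  set n := Function.minimalPeriod σ i₀ with hn
  have hn0 : 0 < n :=
    Function.minimalPeriod_pos_of_mem_periodicPts (σ.injective.mem_periodicPts i₀)
  have hnper : σ^[n] i₀ = i₀ := Function.iterate_minimalPeriod
  set c := (Finset.range n).image fun j => σ^[j] i₀ with hc
  have hmem : ∀ i, i ∈ c ↔ ∃ j, σ^[j] i₀ = i := fun i => by
    simp only [hc, Finset.mem_image, Finset.mem_range]
    exact ⟨fun ⟨j, _, h⟩ => ⟨j, h⟩, fun ⟨j, h⟩ =>
      ⟨j % n, Nat.mod_lt _ hn0, by rw [hn, Function.iterate_mod_minimalPeriod_eq, h]⟩⟩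
  have hcard : c.card = n := by
    rw [hc, Finset.card_image_of_injOn, Finset.card_range]
    intro a ha b hb hab
    exact Function.iterate_injOn_Iio_minimalPeriod (by simpa using ha) (by simpa using hb) hab
  have hcT : c ⊆ T := fun i hi => by
    obtain ⟨j, rfl⟩ := (hmem i).1 hi
    clear hi
    induction j with
    | zero => exact hi₀
    | succ j ihj => rw [Function.iterate_succ_apply']; exact hT _ ihj
  have hcσ : ∀ i, σ i ∈ c ↔ i ∈ c := fun i => by
    rw [hmem, hmem]
    refine ⟨fun ⟨j, h⟩ => ⟨j + (n - 1), σ.injective ?_⟩, fun ⟨j, h⟩ =>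
      ⟨j + 1, by rw [Function.iterate_succ_apply', h]⟩⟩
    rw [← Function.iterate_succ_apply' σ, ← h, Nat.succ_eq_add_one, add_assoc,
      Nat.sub_add_cancel hn0, Function.iterate_add_apply, hnper]
  have hT' : ∀ i ∈ T \ c, σ i ∈ T \ c := fun i hi => by
    rw [Finset.mem_sdiff] at hi ⊢
    exact ⟨hT i hi.1, fun h => hi.2 ((hcσ i).1 h)⟩
  have hle : n ≤ m := by rw [← h, ← hcard]; exact Finset.card_le_card hcT
  have hcard' : (T \ c).card = m - n := by rw [Finset.card_sdiff_of_subset hcT, h, hcard]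
  have hrec := ih (m - n) (by omega) (T \ c) hT' hcard'
  have hQn : 1 < (p ^ e) ^ n := Nat.one_lt_pow hn0.ne' hQ
  have hroot : (rootF k ((p ^ e) ^ n)).card = (p ^ e) ^ n := by
    rw [← pow_mul]; exact card_rootF hp (Nat.mul_pos he hn0)
  have hm : (p ^ e) ^ m = (p ^ e) ^ n * (p ^ e) ^ (m - n) := by
    rw [← pow_add, Nat.add_sub_cancel' hle]
  rw [hm, ← hrec, ← hroot, ← Finset.card_product]
  refine Finset.card_bij (fun x _ => (x i₀, fun i => if i ∈ c then 0 else x i)) ?_ ?_ ?_
  · intro x hx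
    rw [Finset.mem_filter, mem_fixF hQ] at hx
    rw [Finset.mem_product, mem_rootF hQn, Finset.mem_filter, mem_fixF hQ]
    refine ⟨by rw [Fix.iter hx.1, hnper], fun i => ?_, fun i hi => ?_⟩
    · simp only [hcσ]
      split_ifs
      · exact zero_pow (by omega)
      · exact hx.1 i
    · dsimp only
      split_ifs with h1
      · rfl
      · exact hx.2 i fun h2 => hi (Finset.mem_sdiff.2 ⟨h2, h1⟩)
  · intro x hx y hy hxy
    rw [Finset.mem_filter, mem_fixF hQ] at hx hy
    obtain ⟨h1, h2⟩ := Prod.mk.inj hxy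
    funext i
    by_cases hi : i ∈ c
    · obtain ⟨j, rfl⟩ := (hmem i).1 hi
      rw [← Fix.iter hx.1, ← Fix.iter hy.1, h1]
    · simpa [hi] using congrFun h2 i
  · rintro ⟨z, x'⟩ hz
    rw [Finset.mem_product, mem_rootF hQn, Finset.mem_filter, mem_fixF hQ] at hz
    obtain ⟨hz, hx1, hx2⟩ := hz
    dsimp only at hz hx1 hx2
    have hy0 : ∀ i ∉ c, orbVec (p ^ e) σ i₀ n z i = 0 := fun i hi =>
      Finset.sum_eq_zero fun j _ => if_neg fun h => hi ((hmem i).2 ⟨j, h⟩)
    have hy1 : orbVec (p ^ e) σ i₀ n z i₀ = z := by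
      rw [orbVec, Finset.sum_eq_single 0]
      · simp
      · intro j hj hj0
        refine if_neg fun h => hj0 ?_
        exact Function.iterate_injOn_Iio_minimalPeriod (f := σ) (x := i₀) (by simpa using hj)
          (by simpa using hn0) h
      · intro h0; exact absurd (Finset.mem_range.2 hn0) h0
    have hxc : ∀ i ∈ c, x' i = 0 := fun i hi => hx2 i fun h => (Finset.mem_sdiff.1 h).2 hi
    refine ⟨orbVec (p ^ e) σ i₀ n z + x', ?_, ?_⟩
    · rw [Finset.mem_filter, mem_fixF hQ]
      refine ⟨fun i => ?_, fun i hi => ?_⟩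
      · rw [Pi.add_apply, Pi.add_apply, add_pow_char_pow, hx1, orbVec_fix hp hnper hz]
      · rw [Pi.add_apply, hy0 i fun h => hi (hcT h), hx2 i fun h => hi (Finset.mem_sdiff.1 h).1,
          add_zero]
    · refine Prod.ext ?_ (funext fun i => ?_)
      · simp [hy1, hxc i₀ ((hmem i₀).2 ⟨0, rfl⟩)]
      · by_cases hi : i ∈ c
        · simp [hi, hxc i hi]
        · simp [hi, hy0 i hi]

theorem card_fixF [IsAlgClosed k] {p e : ℕ} (hp : p.Prime) [CharP k p] (he : 0 < e) :
    (fixF k (p ^ e) σ).card = (p ^ e) ^ Fintype.card I := by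
  classical
  have := card_fix_on (k := k) (σ := σ) hp he Finset.univ (fun i _ => Finset.mem_univ _)
  simpa using this

/-! ### monomials -/

/-- the action of permutations on exponents -/
noncomputable def act (σ : Equiv.Perm I) (u : I →₀ ℕ) : I →₀ ℕ := Finsupp.equivMapDomain σ u

omit [Fintype I] [DecidableEq I] in
@[simp] theorem act_apply (u : I →₀ ℕ) (i : I) : act σ u i = u (σ.symm i) := rfl

omit [Fintype I] [DecidableEq I] in
theorem act_mul (σ σ' : Equiv.Perm I) (u : I →₀ ℕ) : act (σ * σ') u = act σ (act σ' u) := by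
  ext i; rfl

omit [Fintype I] [DecidableEq I] in
theorem act_one (u : I →₀ ℕ) : act 1 u = u := by
  ext i; rfl

omit [DecidableEq I] in
theorem degree_act (u : I →₀ ℕ) : Finsupp.degree (act σ u) = Finsupp.degree u := by
  rw [Finsupp.degree_eq_sum, Finsupp.degree_eq_sum]
  exact Equiv.sum_comp σ.symm u

omit [DecidableEq I] in
theorem nonneg_of_twist (hQ : 1 < Q) {u : I → ℤ} (h : ∀ i, u (σ.symm i) ≤ Q * u i) (i : I) :
    0 ≤ u i := by
  obtain ⟨j, -, hj⟩ := Finset.exists_min_image Finset.univ u ⟨i, Finset.mem_univ i⟩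
  have h1 := hj (σ.symm j) (Finset.mem_univ _)
  have h2 := h j
  have h3 := hj i (Finset.mem_univ _)
  have h4 : (1 : ℤ) < Q := by exact_mod_cast hQ
  nlinarith

omit [DecidableEq I] in
theorem twist_unique (hQ : 1 < Q) {w u v : I →₀ ℕ} (hu : Q • u = w + act σ u)
    (hv : Q • v = w + act σ v) : u = v := by
  have h : ∀ i, ((u (σ.symm i) : ℤ) - v (σ.symm i)) = Q * ((u i : ℤ) - v i) := fun i => by
    have h1 := congrArg (Nat.cast : ℕ → ℤ) (DFunLike.congr_fun hu i)
    have h2 := congrArg (Nat.cast : ℕ → ℤ) (DFunLike.congr_fun hv i)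
    simp only [Finsupp.coe_smul, Pi.smul_apply, smul_eq_mul, Finsupp.coe_add, Pi.add_apply,
      act_apply, Nat.cast_mul, Nat.cast_add] at h1 h2
    linarith
  ext i
  have h1 := nonneg_of_twist (σ := σ) hQ (u := fun i => (u i : ℤ) - v i) (fun i => (h i).le) i
  have h2 := nonneg_of_twist (σ := σ) hQ (u := fun i => (v i : ℤ) - u i)
    (fun i => by have := h i; linarith) i
  omega

omit [Fintype I] [DecidableEq I] in
theorem twist_support {w u : I →₀ ℕ} (hu : Q • u = w + act σ u) (i : I) :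
    σ i ∈ u.support ↔ i ∈ u.support := by
  classical
  have h1 : ∀ i ∈ u.support, σ i ∈ u.support := fun i hi => by
    rw [Finsupp.mem_support_iff] at hi ⊢
    intro h0
    have := DFunLike.congr_fun hu (σ i)
    simp only [Finsupp.coe_smul, Pi.smul_apply, smul_eq_mul, Finsupp.coe_add, Pi.add_apply,
      act_apply, Equiv.symm_apply_apply, h0, mul_zero] at this
    omega
  exact ⟨fun h => by simpa using Equiv.Perm.perm_symm_on_of_perm_on_finset h1 h, h1 i⟩

theorem prod_twist (hQ : 1 < Q) {w u : I →₀ ℕ} (hu : Q • u = w + act σ u) {x : I → k}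
    (hx : ∀ i, x i ^ Q = x (σ i)) [Decidable (∀ i ∈ u.support, x i ≠ 0)] :
    ∏ i, x i ^ w i = if ∀ i ∈ u.support, x i ≠ 0 then 1 else 0 := by
  have hw : ∀ i, Q * u i = w i + u (σ.symm i) := fun i => by
    simpa using DFunLike.congr_fun hu i
  split_ifs with h
  · have h1 : (∏ i, x i ^ w i) * ∏ i, x i ^ (Q * u i) = ∏ i, x i ^ (Q * u i) := by
      have h2 : ∏ i, x i ^ (Q * u i) = ∏ i, x i ^ (u (σ.symm i)) := by
        rw [← Equiv.prod_comp σ (fun i => x i ^ (u (σ.symm i)))]
        exact Finset.prod_congr rfl fun i _ => by rw [pow_mul, hx, Equiv.symm_apply_apply]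
      conv_lhs => rw [h2, ← Finset.prod_mul_distrib]
      exact Finset.prod_congr rfl fun i _ => by rw [hw, pow_add]
    refine mul_right_cancel₀ (Finset.prod_ne_zero_iff.2 fun i _ => ?_) (h1.trans (one_mul _).symm)
    by_cases hi : i ∈ u.support
    · exact pow_ne_zero _ (h i hi)
    · rw [Finsupp.notMem_support_iff.1 hi, mul_zero, pow_zero]; exact one_ne_zero
  · push Not at h
    obtain ⟨i, hi, hxi⟩ := h
    classical
    obtain ⟨j, hj, hmax⟩ := Finset.exists_max_image (Finset.univ.filter fun j => x j = 0) u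
      ⟨i, by simpa using hxi⟩
    have hj0 : x j = 0 := by simpa using hj
    have h1 := hmax i (by simpa using hxi)
    have h2 : x (σ.symm j) = 0 := by
      have := hx (σ.symm j)
      rw [Equiv.apply_symm_apply, hj0] at this
      exact pow_eq_zero_iff (by omega) |>.1 this
    have h3 := hmax (σ.symm j) (by simpa using h2)
    have h4 := hw j
    have h5 := Finsupp.mem_support_iff.1 hi
    have h6 : w j ≠ 0 := by
      intro h7
      rw [h7] at h4
      nlinarith [Nat.pos_of_ne_zero h5]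
    exact Finset.prod_eq_zero (Finset.mem_univ j) (by rw [hj0, zero_pow h6])

theorem exists_fix_ne_one [IsAlgClosed k] {p e : ℕ} (hp : p.Prime) [CharP k p] (he : 0 < e)
    {w : I →₀ ℕ} (hw : ¬ ∃ u : I →₀ ℕ, p ^ e • u = w + act σ u) :
    ∃ x : I → k, (∀ i, x i ≠ 0) ∧ (∀ i, x i ^ (p ^ e) = x (σ i)) ∧ ∏ i, x i ^ w i ≠ 1 := by
  have hQ : 1 < p ^ e := Nat.one_lt_pow he.ne' hp.one_lt
  set Q := p ^ e with hQd
  let L : (I → ℤ) →+ (I → ℤ) :=
    { toFun := fun u i => Q * u i - u (σ.symm i)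
      map_zero' := by funext i; simp
      map_add' := fun u v => by funext i; simp only [Pi.add_apply]; ring }
  let A := (I → ℤ) ⧸ L.range
  let π : (I → ℤ) →+ A := QuotientAddGroup.mk' _
  have hπ : ∀ v : I → ℤ, Q • π v = π (fun i => v (σ.symm i)) := fun v => by
    rw [← map_nsmul, ← sub_eq_zero, ← map_sub]
    refine (QuotientAddGroup.eq_zero_iff _).2 ⟨v, ?_⟩
    funext i
    simp [L]
  have hπ' : ∀ (j : ℕ) (v : I → ℤ), Q ^ j • π v = π (fun i => v (σ.symm^[j] i)) := fun j => by
    induction j with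
    | zero => intro v; simp
    | succ j ih => intro v; rw [pow_succ', mul_smul, ih, hπ]; rfl
  set n := orderOf σ.symm with hn
  have hn0 : 0 < n := orderOf_pos _
  have hQn : 1 < Q ^ n := Nat.one_lt_pow hn0.ne' hQ
  obtain ⟨N, hN⟩ : ∃ N, Q ^ n = N + 1 := ⟨Q ^ n - 1, by omega⟩
  have hkill : ∀ a : A, N • a = 0 := fun a => by
    obtain ⟨v, rfl⟩ := QuotientAddGroup.mk'_surjective _ a
    have := hπ' n v
    simp only [hn, iterate_orderOf] at this
    rw [← hn, hN, succ_nsmul] at this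
    exact add_eq_right.1 this
  have hfin : Finite A := by
    refine AddCommGroup.finite_of_fg_isAddTorsion A fun a => ?_
    exact isOfFinAddOrder_iff_nsmul_eq_zero.2 ⟨N, by omega, hkill a⟩
  have hNk : NeZero (N : k) := ⟨fun h => by
    have h1 : ((Q ^ n : ℕ) : k) = 0 := by
      rw [CharP.cast_eq_zero_iff k p]
      exact (dvd_pow_self p he.ne').trans (dvd_pow_self Q hn0.ne')
    rw [hN, Nat.cast_succ, h, zero_add] at h1
    exact one_ne_zero h1⟩
  have hN0 : NeZero N := ⟨by omega⟩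
  have hroots : HasEnoughRootsOfUnity k (Monoid.exponent (Multiplicative A)) := by
    refine HasEnoughRootsOfUnity.of_dvd k (n := N) ?_
    exact Monoid.exponent_dvd_of_forall_pow_eq_one fun a => congrArg Multiplicative.ofAdd (hkill a.toAdd)
  have hne : Multiplicative.ofAdd (π fun i => (w i : ℤ)) ≠ 1 := by
    intro h
    obtain ⟨v, hv⟩ := (QuotientAddGroup.eq_zero_iff _).1 (Multiplicative.ofAdd.injective h)
    have hv' : ∀ i, (Q : ℤ) * v i - v (σ.symm i) = w i := fun i => congrFun hv i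
    have hpos := nonneg_of_twist (σ := σ) hQ (u := v) fun i => by have := hv' i; omega
    refine hw ⟨Finsupp.equivFunOnFinite.symm fun i => (v i).toNat, ?_⟩
    ext i
    have h1 := hv' i
    rw [← Int.toNat_of_nonneg (hpos i), ← Int.toNat_of_nonneg (hpos (σ.symm i))] at h1
    simp only [Finsupp.coe_smul, Pi.smul_apply, smul_eq_mul, Finsupp.coe_add, Pi.add_apply,
      act_apply, Finsupp.coe_equivFunOnFinite_symm]
    zify
    linarith
  obtain ⟨χ, hχ⟩ := CommGroup.exists_apply_ne_one_of_hasEnoughRootsOfUnity _ k hne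
  refine ⟨fun i => (χ (Multiplicative.ofAdd (π (Pi.single i 1))) : k), fun i => Units.ne_zero _,
    fun i => ?_, fun h => hχ ?_⟩
  · rw [← Units.val_pow_eq_pow_val, ← map_pow, ← ofAdd_nsmul, hπ]
    congr 4
    funext j
    simp [Pi.single_apply, Equiv.symm_apply_eq]
  · apply Units.ext
    rw [Units.val_one, ← h]
    simp only [← Units.val_pow_eq_pow_val, ← map_pow, ← ofAdd_nsmul, ← map_nsmul]
    rw [← Units.coe_prod, ← map_prod, ← ofAdd_sum, ← map_sum]
    congr 4
    funext j
    simp [Finset.sum_apply, Pi.single_apply]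

theorem sum_monomial_eq_zero [IsAlgClosed k] {p e : ℕ} (hp : p.Prime) [CharP k p] (he : 0 < e)
    {E : Type*} [Field E] {τ : k →*₀ E} (hτ : Function.Injective τ)
    {w : I →₀ ℕ} (hw : ¬ ∃ u : I →₀ ℕ, p ^ e • u = w + act σ u) :
    ∑ x ∈ fixF k (p ^ e) σ, τ (∏ i, x i ^ w i) = 0 := by
  have hQ : 1 < p ^ e := Nat.one_lt_pow he.ne' hp.one_lt
  obtain ⟨x₀, h0, h1, h2⟩ := exists_fix_ne_one (k := k) hp he hw
  have h3 : ∑ x ∈ fixF k (p ^ e) σ, τ (∏ i, x i ^ w i) =
      ∑ x ∈ fixF k (p ^ e) σ, τ (∏ i, x₀ i ^ w i) * τ (∏ i, x i ^ w i) := by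
    symm
    refine Finset.sum_bij' (fun x _ => x₀ * x) (fun x _ => x₀⁻¹ * x) ?_ ?_ ?_ ?_ ?_
    · intro x hx
      rw [mem_fixF hQ] at hx ⊢
      intro i
      simp [mul_pow, h1, hx]
    · intro x hx
      rw [mem_fixF hQ] at hx ⊢
      intro i
      simp [mul_pow, h1, hx]
    · intro x _; funext i; simp [h0 i]
    · intro x _; funext i; simp [h0 i]
    · intro x _
      rw [← map_mul, ← Finset.prod_mul_distrib]
      simp [mul_pow]
  rw [← Finset.mul_sum] at h3
  have h4 : τ (∏ i, x₀ i ^ w i) ≠ 1 := fun h => h2 (hτ (h.trans (map_one τ).symm))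
  have h5 : (τ (∏ i, x₀ i ^ w i) - 1) * ∑ x ∈ fixF k (p ^ e) σ, τ (∏ i, x i ^ w i) = 0 := by
    linear_combination -h3
  exact (mul_eq_zero.1 h5).resolve_left (sub_ne_zero.2 h4)

end Cfsg.Agent.DL.Dw
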