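import Cfsg.Agent.DL.Dw.Fix

/-!
# The twisted trace formula of Dwork for polynomials
-/

set_option autoImplicit false

namespace Cfsg.Agent.DL.Dw

open MvPolynomial

variable {I : Type*} [Fintype I] [DecidableEq I] {σ : Equiv.Perm I}

/-- the sign of the permutation induced on `S`, and zero if `S` is not invariant -/
def sg (S : Finset I) (σ : Equiv.Perm I) : ℤ :=
  (Matrix.of fun i j : S => if σ i = j then (1 : ℤ) else 0).det

omit [Fintype I] in
theorem sg_eq_zero {S : Finset I} {i : I} (hi : i ∈ S) (hσ : σ i ∉ S) : sg S σ = 0 := by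
  refine Matrix.det_eq_zero_of_row_eq_zero ⟨i, hi⟩ fun j => ?_
  rw [Matrix.of_apply]
  exact if_neg fun h : σ i = j => hσ (h ▸ j.2)

omit [Fintype I] in
theorem sg_one (S : Finset I) : sg S 1 = 1 := by
  have : (Matrix.of fun i j : S => if (1 : Equiv.Perm I) i = j then (1 : ℤ) else 0) = 1 := by
    ext i j
    rw [Matrix.of_apply, Matrix.one_apply]
    simp only [Equiv.Perm.coe_one, id, Subtype.val_inj]
  rw [sg, this, Matrix.det_one]

omit [Fintype I] in
theorem sg_mul {S : Finset I} (h : ∀ i ∈ S, σ i ∈ S) (σ' : Equiv.Perm I) :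
    sg S (σ' * σ) = sg S σ' * sg S σ := by
  rw [mul_comm (sg S σ'), sg, sg, sg, ← Matrix.det_mul]
  congr 1
  ext i l
  simp only [Matrix.of_apply, Matrix.mul_apply, Equiv.Perm.coe_mul, Function.comp_apply]
  rw [Finset.sum_eq_single ⟨σ i, h i i.2⟩]
  · rw [if_pos rfl, one_mul]
    congr
  · intro j _ hj
    rw [if_neg, zero_mul]
    exact fun h1 => hj (Subtype.ext h1.symm)
  · intro h1; exact absurd (Finset.mem_univ _) h1

omit [Fintype I] in
theorem sg_conj {S S' : Finset I} (g : Equiv.Perm I) (h : ∀ i, i ∈ S ↔ g i ∈ S') :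
    sg S' (g * σ * g⁻¹) = sg S σ := by
  let e : S ≃ S' := Equiv.subtypeEquiv g h
  rw [sg, sg, ← Matrix.det_submatrix_equiv_self e]
  congr 1
  ext i j
  simp [e]

theorem det_add_one (M : Matrix I I ℤ) : (M + 1).det =
    ∑ s : Finset I, (M.submatrix (Subtype.val : s → I) (Subtype.val : s → I)).det := by
  have := (Matrix.detRowAlternating : (I → ℤ) [⋀^I]→ₗ[ℤ] ℤ).map_add_univ M (1 : Matrix I I ℤ)
  refine this.trans (Finset.sum_congr rfl fun s _ => ?_)
  exact Matrix.det_piecewise_one_eq_submatrix_det M s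

theorem sum_sg {T : Finset I} (hT : ∀ i ∈ T, σ i ∈ T) :
    ∑ S ∈ T.powerset, (-1) ^ S.card * sg S σ = if T = ∅ then 1 else 0 := by
  split_ifs with h
  · subst h
    simp [sg]
  let M : Matrix I I ℤ := Matrix.of fun i j => if i ∈ T ∧ σ i = j then -1 else 0
  have h1 : (M + 1).det = 0 := by
    refine Matrix.exists_mulVec_eq_zero_iff.1 ⟨fun i => if i ∈ T then 1 else 0, ?_, ?_⟩
    · obtain ⟨i, hi⟩ := Finset.nonempty_iff_ne_empty.2 h
      intro h0
      simpa [hi] using congrFun h0 i
    · funext i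
      rw [Matrix.add_mulVec, Matrix.one_mulVec, Pi.add_apply, Matrix.mulVec, dotProduct,
        Finset.sum_eq_single (σ i)]
      · by_cases hi : i ∈ T
        · simp [M, hi, hT i hi]
        · simp [M, hi]
      · intro j _ hj
        simp [M, hj.symm]
      · intro h1; exact absurd (Finset.mem_univ _) h1
  rw [det_add_one] at h1
  rw [← h1]
  symm
  rw [← Finset.sum_subset (Finset.subset_univ T.powerset)]
  · refine Finset.sum_congr rfl fun S hS => ?_
    have hS' := Finset.mem_powerset.1 hS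
    have : M.submatrix (Subtype.val : S → I) (Subtype.val : S → I) =
        -(Matrix.of fun i j : S => if σ i = j then (1 : ℤ) else 0) := by
      ext i j
      simp only [M, Matrix.submatrix_apply, Matrix.of_apply, hS' i.2, true_and, Matrix.neg_apply]
      split_ifs <;> simp
    rw [this, Matrix.det_neg, Fintype.card_coe, sg]
  · intro S _ hS
    obtain ⟨i, hi, hi'⟩ := Finset.not_subset.1 (mt Finset.mem_powerset.2 hS)
    refine Matrix.det_eq_zero_of_row_eq_zero ⟨i, hi⟩ fun j => ?_
    simp [M, hi']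

/-- the exponents of degree at most `L` that are positive on `S` -/
noncomputable def UF (L : ℕ) (S : Finset I) : Finset (I →₀ ℕ) :=
  (Finsupp.finite_of_degree_le (σ := I) L).toFinset.filter fun u => ∀ i ∈ S, 1 ≤ u i

theorem mem_UF {L : ℕ} {S : Finset I} {u : I →₀ ℕ} :
    u ∈ UF L S ↔ Finsupp.degree u ≤ L ∧ ∀ i ∈ S, 1 ≤ u i := by
  simp [UF]

variable {E : Type*} [Field E]

/-- the twisted trace -/
noncomputable def tw (h : MvPolynomial I E) (Q : ℕ) (σ : Equiv.Perm I) (L : ℕ) (S : Finset I) : E :=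
  ∑ u ∈ UF L S, coeff (Q • u) (h * monomial (act σ u) 1)

theorem count_formula {k : Type*} [Field k] [IsAlgClosed k] {p e : ℕ} (hp : p.Prime) [CharP k p]
    (he : 0 < e) {T : Finset I} (hT : ∀ i ∈ T, σ i ∈ T) [DecidableEq k] :
    ∑ x ∈ fixF k (p ^ e) σ, (if ∀ i ∈ T, x i ≠ 0 then (1 : ℤ) else 0) =
      ∑ S ∈ T.powerset, (-1) ^ S.card * sg S σ * ((p ^ e) ^ (Fintype.card I - S.card) : ℕ) := by
  have hQ : 1 < p ^ e := Nat.one_lt_pow he.ne' hp.one_lt
  have h1 : ∀ x ∈ fixF k (p ^ e) σ, (if ∀ i ∈ T, x i ≠ 0 then (1 : ℤ) else 0) =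
      ∑ S ∈ T.powerset, if ∀ i ∈ S, x i = 0 then (-1) ^ S.card * sg S σ else 0 := by
    intro x hx
    rw [mem_fixF hQ] at hx
    have h2 := sum_sg (σ := σ) (T := T.filter fun i => x i = 0) fun i hi => by
      rw [Finset.mem_filter] at hi ⊢
      exact ⟨hT i hi.1, by rw [← hx, hi.2, zero_pow (by omega)]⟩
    rw [← Finset.sum_filter]
    have h3 : (T.powerset.filter fun S => ∀ i ∈ S, x i = 0) =
        (T.filter fun i => x i = 0).powerset := by
      ext S
      simp only [Finset.mem_filter, Finset.mem_powerset, Finset.subset_iff]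
      exact ⟨fun h i hi => ⟨h.1 hi, h.2 i hi⟩, fun h => ⟨fun i hi => (h hi).1, fun i hi => (h hi).2⟩⟩
    rw [h3, h2]
    simp only [Finset.filter_eq_empty_iff]
  rw [Finset.sum_congr rfl h1, Finset.sum_comm]
  refine Finset.sum_congr rfl fun S _ => ?_
  by_cases hS : ∀ i ∈ S, σ i ∈ S
  · have h4 := card_fix_on (k := k) (σ := σ) hp he Sᶜ fun i hi => by
      rw [Finset.mem_compl] at hi ⊢
      intro h5
      exact hi (by simpa using Equiv.Perm.perm_symm_on_of_perm_on_finset hS h5)
    rw [Finset.card_compl] at h4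
    rw [← Finset.sum_filter, Finset.sum_const, ← h4, nsmul_eq_mul, mul_comm]
    simp only [Finset.mem_compl, not_not]
  · push Not at hS
    obtain ⟨i, hi, hi'⟩ := hS
    simp [sg_eq_zero hi hi']

theorem trace_formula {k : Type*} [Field k] [IsAlgClosed k] {p e : ℕ} (hp : p.Prime) [CharP k p]
    (he : 0 < e) {τ : k →*₀ E} (hτ : Function.Injective τ) {L : ℕ} (h : MvPolynomial I E)
    (hdeg : h.totalDegree ≤ (p ^ e - 1) * L) :
    ∑ x ∈ fixF k (p ^ e) σ, eval (fun i => τ (x i)) h =
      ∑ S : Finset I, (-1) ^ S.card * (sg S σ : E) *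
        ((p : E) ^ e) ^ (Fintype.card I - S.card) * tw h (p ^ e) σ L S := by
  classical
  have hQ : 1 < p ^ e := Nat.one_lt_pow he.ne' hp.one_lt
  have hR : ∀ S, tw h (p ^ e) σ L S = ∑ w ∈ h.support, coeff w h *
      ∑ u ∈ UF L S, if p ^ e • u = w + act σ u then 1 else 0 := fun S => by
    simp only [tw, Finset.mul_sum]
    rw [Finset.sum_comm]
    refine Finset.sum_congr rfl fun u _ => ?_
    conv_lhs => rw [h.as_sum, Finset.sum_mul, coeff_sum]
    refine Finset.sum_congr rfl fun w _ => ?_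
    rw [monomial_mul, coeff_monomial]
    simp only [eq_comm (a := p ^ e • u), mul_one, mul_ite, mul_zero]
  have hL : ∀ x : I → k, eval (fun i => τ (x i)) h =
      ∑ w ∈ h.support, coeff w h * τ (∏ i, x i ^ w i) := fun x => by
    rw [eval_eq']
    simp only [map_prod, map_pow]
  simp only [hR, hL, Finset.mul_sum (s := h.support)]
  rw [Finset.sum_comm, Finset.sum_comm (s := Finset.univ)]
  refine Finset.sum_congr rfl fun w hw => ?_
  rw [← Finset.mul_sum]
  simp only [mul_left_comm _ (coeff w h)]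
  rw [← Finset.mul_sum]
  congr 1
  by_cases hex : ∃ u : I →₀ ℕ, p ^ e • u = w + act σ u
  · obtain ⟨u, hu⟩ := hex
    have hd : Finsupp.degree u ≤ L := by
      have h1 := congrArg Finsupp.degree hu
      rw [map_add, degree_act, map_nsmul, smul_eq_mul] at h1
      have h2 : Finsupp.degree w ≤ (p ^ e - 1) * L := by
        refine le_trans ?_ hdeg
        simpa [Finsupp.degree_apply, Finsupp.sum] using le_totalDegree hw
      obtain ⟨N, hN⟩ : ∃ N, p ^ e = N + 1 := ⟨p ^ e - 1, by omega⟩
      rw [hN] at h1 h2 hQ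
      rw [Nat.add_sub_cancel] at h2
      have h3 : N * Finsupp.degree u ≤ N * L := by linarith
      exact Nat.le_of_mul_le_mul_left h3 (by omega)
    have h1 : ∀ x ∈ fixF k (p ^ e) σ, τ (∏ i, x i ^ w i) =
        ((if ∀ i ∈ u.support, x i ≠ 0 then 1 else 0 : ℤ) : E) := fun x hx => by
      rw [prod_twist hQ hu ((mem_fixF hQ).1 hx)]
      split_ifs <;> simp
    rw [Finset.sum_congr rfl h1, ← Int.cast_sum,
      count_formula hp he fun i hi => (twist_support hu i).2 hi]
    push_cast
    rw [← Finset.sum_subset (Finset.subset_univ u.support.powerset)]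
    · refine Finset.sum_congr rfl fun S hS => ?_
      rw [Finset.sum_eq_single u, if_pos hu, mul_one]
      · intro v _ hv
        exact if_neg fun h2 => hv (twist_unique hQ h2 hu)
      · intro h2
        refine absurd (mem_UF.2 ⟨hd, fun i hi => ?_⟩) h2
        exact Nat.pos_of_ne_zero (Finsupp.mem_support_iff.1 (Finset.mem_powerset.1 hS hi))
    · intro S _ hS
      rw [Finset.sum_eq_zero, mul_zero]
      intro v hv
      refine if_neg fun h2 => hS (Finset.mem_powerset.2 fun i hi => ?_)
      rw [← twist_unique hQ h2 hu, Finsupp.mem_support_iff]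
      have := (mem_UF.1 hv).2 i hi
      omega
  · rw [sum_monomial_eq_zero hp he hτ hex]
    symm
    refine Finset.sum_eq_zero fun S _ => ?_
    rw [Finset.sum_eq_zero, mul_zero]
    exact fun u _ => if_neg fun h2 => hex ⟨u, h2⟩

end Cfsg.Agent.DL.Dw
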